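import Cfsg.Agent.H853.Fx.PslC
import Cfsg.Agent.H248.Cov.Dick
import Cfsg.Agent.H262.Rx.Name
import Cfsg.Agent.H618.Dp.Red
import Cfsg.Agent.H16.PSp4.Bridge
import Cfsg.Agent.H402.Rg.Fld

/-!
# Subgroups of `SL_2(E)` containing a large prime or a large `p`-part
-/

set_option autoImplicit false
set_option linter.unusedSectionVars false

namespace Cfsg.Agent.H402.Rg

open Module Matrix Cfsg Cfsg.Geo
open scoped MatrixGroups Matrix commutatorElement
open Cfsg.Agent.H884.El (PP)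

section psl

variable {K : Type*} [Field K] [Fintype K] {p N : ℕ} [hp : Fact p.Prime] [CharP K p]

theorem card_dih {k : ℕ} : Nat.card (DihedralGroup k) = 2 * k := DihedralGroup.nat_card

theorem psl_top (hK : Fintype.card K = p ^ N) (H : Subgroup (ProjectiveSpecialLinearGroup (Fin 2) K))
    {K' : Type} [Field K'] [Fintype K'] (hc : Fintype.card K' = Fintype.card K)
    (he : Nonempty (H ≃* ProjectiveSpecialLinearGroup (Fin 2) K') ∨ Nonempty (H ≃* ProjGenLinGroup (Fin 2) K')) : H = ⊤ := by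
  have hfin : Finite (ProjectiveSpecialLinearGroup (Fin 2) K) := Quotient.finite _
  have hcardP := Cfsg.Agent.H394.SqPsl2.card_psl (F := K)
  have hcK' := Cfsg.Agent.H394.SqPsl2.card_psl (F := K')
  apply Subgroup.eq_top_of_le_card
  rcases he with ⟨⟨e⟩⟩ | ⟨⟨e⟩⟩
  · rw [Nat.card_congr e.toEquiv]
    rw [hc, ← hcardP] at hcK'
    exact (Nat.eq_of_mul_eq_mul_left (Nat.gcd_pos_of_pos_left _ (by norm_num)) hcK').symm.le
  · rw [Nat.card_congr e.toEquiv, Cfsg.Agent.H394.SqPsl2.card_pgl, hc, ← hcardP]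
    exact Nat.le_mul_of_pos_left _ (Nat.gcd_pos_of_pos_left _ (by norm_num))

/-- the subfield alternative -/
theorem exists_pow (hN : 1 ≤ N) {K' : Type} [Field K'] [Fintype K'] {m : ℕ} (hm : Fintype.card K' ^ m = p ^ N) :
    ∃ N', 1 ≤ N' ∧ 1 ≤ m ∧ Fintype.card K' = p ^ N' ∧ N = N' * m := by
  have hK1 : 1 < Fintype.card K' := Fintype.one_lt_card
  have hm0 : m ≠ 0 := by
    rintro rfl
    rw [pow_zero, eq_comm, Nat.pow_eq_one] at hm
    rcases hm with h | h
    · exact hp.out.one_lt.ne' h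
    · omega
  obtain ⟨N', -, hN'⟩ : ∃ N' ≤ N, Fintype.card K' = p ^ N' := by
    have h1 : Fintype.card K' ∣ p ^ N := by
      rw [← hm]
      exact dvd_pow_self _ hm0
    exact (Nat.dvd_prime_pow hp.out).1 h1
  refine ⟨N', ?_, by omega, hN', ?_⟩
  · rcases Nat.eq_zero_or_pos N' with rfl | h
    · rw [pow_zero] at hN'; omega
    · exact h
  · rw [hN', ← pow_mul] at hm
    exact (Nat.pow_right_injective hp.out.two_le hm).symm

theorem card_A4 : Nat.card (alternatingGroup (Fin 4)) = 12 := by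
  rw [Nat.card_eq_fintype_card]; decide

theorem card_S4 : Nat.card (Equiv.Perm (Fin 4)) = 24 := by
  rw [Nat.card_perm, Nat.card_fin]; decide

theorem card_A5 : Nat.card (alternatingGroup (Fin 5)) = 60 := by
  have h : 2 * Nat.card (alternatingGroup (Fin 5)) = Nat.card (Equiv.Perm (Fin 5)) := two_mul_nat_card_alternatingGroup
  rw [Nat.card_perm, Nat.card_fin] at h
  have : Nat.factorial 5 = 120 := by decide
  omega

/-- a large prime -/
theorem psl_of_pp (hK : Fintype.card K = p ^ N) (hN : 1 ≤ N) {r : ℕ} (hr : PP p (2 * N) r)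
    (H : Subgroup (ProjectiveSpecialLinearGroup (Fin 2) K)) (hrH : r ∣ Nat.card H) :
    H = ⊤ ∨ Nat.card H ≤ 2 * (Fintype.card K + 1) ∨ Nat.card H ≤ 60 := by
  classical
  have hfin : Finite (ProjectiveSpecialLinearGroup (Fin 2) K) := Quotient.finite _
  have hcardP := Cfsg.Agent.H394.SqPsl2.card_psl (F := K)
  have hK1 : 1 < Fintype.card K := Fintype.one_lt_card
  have hrq : ¬ r ∣ Fintype.card K := by
    rw [hK]
    intro h
    exact hr.not_dvd (by omega) (hr.prime.dvd_of_dvd_pow h)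
  rcases Cfsg.Agent.H853.Fx.dickson hK p H with ⟨k, hk, hH⟩ | ⟨-, P, hP⟩ | ⟨⟨e⟩⟩ | ⟨⟨e⟩⟩ | ⟨⟨e⟩⟩ | ⟨K', iK, iK', m, hm, he⟩
  · right; left
    have h1 : k ≤ Fintype.card K + 1 := by
      rw [← hK] at hk
      rcases hk with h | h
      · rcases Nat.eq_zero_or_pos ((Fintype.card K + 1) / Nat.gcd 2 (Fintype.card K - 1)) with h0 | h0
        · exfalso
          rw [Nat.div_eq_zero_iff] at h0
          have h2 : Nat.gcd 2 (Fintype.card K - 1) ≤ 2 := Nat.gcd_le_left _ (by norm_num)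
          have h3 : 0 < Nat.gcd 2 (Fintype.card K - 1) := Nat.gcd_pos_of_pos_left _ (by norm_num)
          omega
        · exact (Nat.le_of_dvd h0 h).trans (Nat.div_le_self _ _)
      · rcases Nat.eq_zero_or_pos ((Fintype.card K - 1) / Nat.gcd 2 (Fintype.card K - 1)) with h0 | h0
        · exfalso
          rw [Nat.div_eq_zero_iff] at h0
          have h2 : Nat.gcd 2 (Fintype.card K - 1) ≤ Fintype.card K - 1 := Nat.gcd_le_right _ (by omega)
          have h3 : 0 < Nat.gcd 2 (Fintype.card K - 1) := Nat.gcd_pos_of_pos_left _ (by norm_num)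
          omega
        · exact ((Nat.le_of_dvd h0 h).trans (Nat.div_le_self _ _)).trans (by omega)
    rcases hH with ⟨-, h⟩ | ⟨⟨e⟩⟩
    · omega
    · rw [Nat.card_congr e.toEquiv, card_dih]
      omega
  · exfalso
    have h1 := hrH.trans (Subgroup.card_dvd_of_le hP)
    have h2 := (Subgroup.normalizer ((P : Subgroup (ProjectiveSpecialLinearGroup (Fin 2) K)) :
      Set (ProjectiveSpecialLinearGroup (Fin 2) K))).card_mul_index
    rw [Cfsg.Agent.H436.TT.index_normalizer p P] at h2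
    rw [← h2, Cfsg.Agent.H394.SqPsl2.sub_mul_self hK1.le, ← mul_assoc, mul_comm (Fintype.card K + 1) (Fintype.card K - 1),
      ← mul_assoc] at hcardP
    have h3 := Nat.eq_of_mul_eq_mul_right (by omega) hcardP
    have h4 : r ∣ Fintype.card K * (Fintype.card K - 1) := by
      rw [← h3]
      exact Dvd.dvd.mul_left h1 _
    rcases hr.prime.dvd_mul.1 h4 with h5 | h5
    · exact hrq h5
    · rw [hK, hr.dvd_iff hp.out.one_lt.le] at h5
      have := Nat.le_of_dvd (by omega) h5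
      omega
  · right; right
    rw [Nat.card_congr e.toEquiv, card_A4]; norm_num
  · right; right
    rw [Nat.card_congr e.toEquiv, card_S4]; norm_num
  · right; right
    rw [Nat.card_congr e.toEquiv, card_A5]
  · left
    obtain ⟨N', hN', hm1, hcK', hNm⟩ := exists_pow hN hm
    have hrK' : r ∣ Fintype.card K' * (Fintype.card K' ^ 2 - 1) := by
      rcases he with ⟨⟨e⟩⟩ | ⟨⟨e⟩⟩
      · rw [Nat.card_congr e.toEquiv] at hrH
        rw [← Cfsg.Agent.H394.SqPsl2.card_psl (F := K')]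
        exact Dvd.dvd.mul_left hrH _
      · rw [Nat.card_congr e.toEquiv] at hrH
        rwa [Cfsg.Agent.H394.SqPsl2.card_pgl] at hrH
    have h3 : N = N' := by
      rcases hr.prime.dvd_mul.1 hrK' with h | h
      · rw [hcK'] at h
        exact absurd (hr.prime.dvd_of_dvd_pow h) (hr.not_dvd (by omega))
      · rw [hcK', ← pow_mul, hr.dvd_iff hp.out.one_lt.le] at h
        have h4 := Nat.le_of_dvd (by omega) h
        have h6 : N' * 1 ≤ N' * m := Nat.mul_le_mul_left _ (by omega)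
        omega
    exact psl_top hK H (by rw [hcK', hK, h3]) he

/-- a large `p`-part -/
theorem psl_of_part (hK : Fintype.card K = p ^ N) (hN : 1 ≤ N) {b : ℕ} (hb : Fintype.card K < p ^ b * p ^ b)
    (h8 : 8 < p ^ b) (H : Subgroup (ProjectiveSpecialLinearGroup (Fin 2) K)) (hbH : p ^ b ∣ Nat.card H) :
    H = ⊤ ∨ ∃ P : Sylow p (ProjectiveSpecialLinearGroup (Fin 2) K),
      H ≤ Subgroup.normalizer ((P : Subgroup (ProjectiveSpecialLinearGroup (Fin 2) K)) : Set (ProjectiveSpecialLinearGroup (Fin 2) K)) := by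
  classical
  have hfin : Finite (ProjectiveSpecialLinearGroup (Fin 2) K) := Quotient.finite _
  have hK1 : 1 < Fintype.card K := Fintype.one_lt_card
  have hb1 : 1 ≤ b := by
    rcases Nat.eq_zero_or_pos b with rfl | h
    · rw [pow_zero] at h8; omega
    · exact h
  have hsmall : ∀ c : ℕ, 0 < c → c ∣ 120 → ¬ p ^ b ∣ c := by
    intro c hc hc2 hd
    have h1 : p ^ b ∣ 120 := hd.trans hc2
    have hp5 : p ∣ 120 := (dvd_pow_self p (by omega)).trans h1
    have hple : p ≤ 5 := by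
      have h120 : (120 : ℕ) = 2 ^ 3 * 3 * 5 := by norm_num
      rw [h120] at hp5
      rcases hp.out.dvd_mul.1 hp5 with h | h
      · rcases hp.out.dvd_mul.1 h with h | h
        · have := Nat.le_of_dvd (by norm_num) (hp.out.dvd_of_dvd_pow h)
          omega
        · have := Nat.le_of_dvd (by norm_num) h
          omega
      · exact Nat.le_of_dvd (by norm_num) h
    have hp2 := hp.out.two_le
    have hlt : b < 7 := by
      by_contra hcon
      have h2 : 2 ^ 7 ≤ p ^ b := (Nat.pow_le_pow_right (by norm_num) (by omega)).trans (Nat.pow_le_pow_left hp2 b)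
      have h3 := Nat.le_of_dvd (by norm_num) h1
      omega
    interval_cases p <;> interval_cases b <;> revert h1 h8 <;> first | (intro h; revert h; decide) | exact absurd hp.out (by norm_num)
  rcases Cfsg.Agent.H853.Fx.dickson hK p H with ⟨k, hk, hH⟩ | ⟨-, P, hP⟩ | ⟨⟨e⟩⟩ | ⟨⟨e⟩⟩ | ⟨⟨e⟩⟩ | ⟨K', iK, iK', m, hm, he⟩
  · exfalso
    have hpk : ¬ p ∣ k := by
      intro h
      rw [← hK] at hk
      have hpK : p ∣ Fintype.card K := by rw [hK]; exact dvd_pow_self p (by omega)
      rcases hk with h1 | h1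
      · have h2 : p ∣ Fintype.card K + 1 := (h.trans h1).trans (Nat.div_dvd_of_dvd (by
          rcases Nat.even_or_odd (Fintype.card K) with he | ho
          · have : Nat.gcd 2 (Fintype.card K - 1) = 1 := by
              have h3 : ¬ 2 ∣ Fintype.card K - 1 := by
                obtain ⟨t, ht⟩ := he
                omega
              exact (Nat.coprime_primes Nat.prime_two Nat.prime_two |>.not.2 (by simp) |> fun _ => (Nat.Prime.coprime_iff_not_dvd Nat.prime_two).2 h3)
            rw [this]; exact one_dvd _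
          · obtain ⟨t, ht⟩ := ho
            exact (Nat.gcd_dvd_left _ _).trans ⟨t + 1, by omega⟩))
        have h3 : p ∣ 1 := (Nat.dvd_add_right hpK).1 h2
        exact hp.out.one_lt.ne' (Nat.dvd_one.1 h3)
      · have h2 : p ∣ Fintype.card K - 1 := (h.trans h1).trans (Nat.div_dvd_of_dvd (Nat.gcd_dvd_right _ _))
        have h3 : p ∣ 1 := by
          have h4 := Nat.dvd_sub hpK h2
          have h5 : Fintype.card K - (Fintype.card K - 1) = 1 := by omega
          rwa [h5] at h4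
        exact hp.out.one_lt.ne' (Nat.dvd_one.1 h3)
    have h2k : p ^ b ∣ 2 * k := by
      rcases hH with ⟨-, h⟩ | ⟨⟨e⟩⟩
      · rw [h] at hbH
        exact hbH.mul_left 2
      · rwa [Nat.card_congr e.toEquiv, card_dih] at hbH
    have hcop : Nat.Coprime (p ^ b) k := Nat.Coprime.pow_left _ ((Nat.Prime.coprime_iff_not_dvd hp.out).2 hpk)
    have h3 := Nat.le_of_dvd (by norm_num) (hcop.dvd_of_dvd_mul_right h2k)
    omega
  · exact Or.inr ⟨P, hP⟩
  · exfalso
    rw [Nat.card_congr e.toEquiv, card_A4] at hbH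
    exact hsmall 12 (by norm_num) (by norm_num) hbH
  · exfalso
    rw [Nat.card_congr e.toEquiv, card_S4] at hbH
    exact hsmall 24 (by norm_num) (by norm_num) hbH
  · exfalso
    rw [Nat.card_congr e.toEquiv, card_A5] at hbH
    exact hsmall 60 (by norm_num) (by norm_num) hbH
  · left
    obtain ⟨N', hN', hm1, hcK', hNm⟩ := exists_pow hN hm
    have hK'1 : 1 < Fintype.card K' := Fintype.one_lt_card
    have hd : p ^ b ∣ Fintype.card K' * (Fintype.card K' ^ 2 - 1) := by
      rcases he with ⟨⟨e⟩⟩ | ⟨⟨e⟩⟩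
      · rw [Nat.card_congr e.toEquiv] at hbH
        rw [← Cfsg.Agent.H394.SqPsl2.card_psl (F := K')]
        exact Dvd.dvd.mul_left hbH _
      · rw [Nat.card_congr e.toEquiv] at hbH
        rwa [Cfsg.Agent.H394.SqPsl2.card_pgl] at hbH
    have hcop : Nat.Coprime (p ^ b) (Fintype.card K' ^ 2 - 1) := by
      apply Nat.Coprime.pow_left
      rw [Nat.Prime.coprime_iff_not_dvd hp.out]
      intro h
      have h1 : p ∣ Fintype.card K' ^ 2 := by rw [hcK', ← pow_mul]; exact dvd_pow_self p (by omega)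
      have h4 := Nat.dvd_sub h1 h
      have h6 : 1 ≤ Fintype.card K' ^ 2 := Nat.one_le_pow _ _ (by omega)
      have h5 : Fintype.card K' ^ 2 - (Fintype.card K' ^ 2 - 1) = 1 := by omega
      rw [h5] at h4
      exact hp.out.one_lt.ne' (Nat.dvd_one.1 h4)
    have h3 := Nat.le_of_dvd (by omega) (hcop.dvd_of_dvd_mul_right hd)
    have hm2 : m = 1 := by
      by_contra hm2
      have h4 : Fintype.card K' ^ 2 ≤ Fintype.card K := by
        rw [hK, ← hm]
        exact Nat.pow_le_pow_right (by omega) (by omega)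
      have h5 : p ^ b * p ^ b ≤ Fintype.card K' * Fintype.card K' := Nat.mul_le_mul h3 h3
      rw [_root_.sq] at h4
      omega
    exact psl_top hK H (by rw [← pow_one (Fintype.card K'), hK, ← hm, hm2]) he

end psl

/-! ### lifting to `SL_2` and `Sp_2` -/

section lift

variable {K : Type*} [Field K] [Fintype K]

/-- a subgroup of a perfect group which covers the quotient by a central subgroup is everything -/
theorem eq_top_of_map {G Q : Type*} [Group G] [Group Q] (f : G →* Q) (hf : Function.Surjective f)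
    (hker : f.ker ≤ Subgroup.center G) (hperf : commutator G = ⊤) (R : Subgroup G) (hR : R.map f = ⊤) : R = ⊤ := by
  rw [eq_top_iff, ← hperf, commutator_def, Subgroup.commutator_le]
  intro a _ b _
  have hex : ∀ a : G, ∃ x ∈ R, ∃ z ∈ Subgroup.center G, a = x * z := by
    intro a
    have h1 : f a ∈ R.map f := by rw [hR]; trivial
    obtain ⟨x, hx, hxa⟩ := h1
    refine ⟨x, hx, x⁻¹ * a, hker ?_, by group⟩
    rw [MonoidHom.mem_ker, map_mul, map_inv, hxa, inv_mul_cancel]
  obtain ⟨x, hx, z, hz, rfl⟩ := hex a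
  obtain ⟨y, hy, w, hw, rfl⟩ := hex b
  have hz' := fun g => (Subgroup.mem_center_iff.1 hz g)
  have hw' := fun g => (Subgroup.mem_center_iff.1 hw g)
  have e : ⁅x * z, y * w⁆ = ⁅x, y⁆ := by
    rw [commutatorElement_def, commutatorElement_def, _root_.mul_inv_rev, _root_.mul_inv_rev]
    calc x * z * (y * w) * (z⁻¹ * x⁻¹) * (w⁻¹ * y⁻¹) = x * ((z * (y * w)) * z⁻¹) * x⁻¹ * w⁻¹ * y⁻¹ := by group
      _ = x * (y * w) * x⁻¹ * w⁻¹ * y⁻¹ := by rw [← hz' (y * w)]; group
      _ = x * y * (w * x⁻¹) * w⁻¹ * y⁻¹ := by group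
      _ = x * y * x⁻¹ * y⁻¹ := by rw [← hw' x⁻¹]; group
  rw [e, commutatorElement_def]
  exact R.mul_mem (R.mul_mem (R.mul_mem hx hy) (R.inv_mem hx)) (R.inv_mem hy)

/-- the lift of a Sylow normaliser -/
theorem exists_lift {G Q : Type*} [Group G] [Finite G] [Group Q] (f : G →* Q) (hf : Function.Surjective f)
    (hker : f.ker ≤ Subgroup.center G) {p : ℕ} [hp : Fact p.Prime] (P : Sylow p Q) (R : Subgroup G)
    (hR : R.map f ≤ Subgroup.normalizer ((P : Subgroup Q) : Set Q)) :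
    ∃ S : Subgroup G, IsPGroup p S ∧ S.map f = P ∧ R ≤ Subgroup.normalizer (S : Set G) := by
  classical
  have hfinQ : Finite Q := Finite.of_surjective f hf
  set L : Subgroup G := (P : Subgroup Q).comap f with hL
  have hRL : R ≤ Subgroup.normalizer (L : Set G) := by
    intro r hr
    rw [Subgroup.mem_normalizer_iff]
    have h1 : f r ∈ Subgroup.normalizer ((P : Subgroup Q) : Set Q) := hR ⟨r, hr, rfl⟩
    rw [Subgroup.mem_normalizer_iff] at h1
    intro x
    show f x ∈ (P : Subgroup Q) ↔ f (r * x * r⁻¹) ∈ (P : Subgroup Q)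
    rw [h1, map_mul, map_mul, map_inv]
  -- `L` is nilpotent
  let fL : L →* (P : Subgroup Q) := f.subgroupComap _
  have hnP : Group.IsNilpotent (P : Subgroup Q) := P.2.isNilpotent
  have hnil : Group.IsNilpotent L := by
    refine Subgroup.isNilpotent_of_ker_le_center fL ?_
    intro x hx
    have h1 : f (x : G) = 1 := congrArg Subtype.val hx
    have h2 := hker h1
    rw [Subgroup.mem_center_iff] at h2 ⊢
    intro g
    exact Subtype.ext (h2 g)
  obtain ⟨T⟩ : Nonempty (Sylow p L) := inferInstance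
  have hTn : (T : Subgroup L).Normal := inferInstance
  have hall : ∀ y : L, (∃ k, orderOf y = p ^ k) → y ∈ (T : Subgroup L) := by
    rintro y ⟨k, hk⟩
    have h1 : IsPGroup p (Subgroup.zpowers y) := IsPGroup.of_card (n := k) (by rw [Nat.card_zpowers, hk])
    obtain ⟨T', hT'⟩ := h1.exists_le_sylow
    have h2 : T' = T := by
      have := T.unique_of_normal hTn
      exact Subsingleton.elim _ _
    rw [← h2]
    exact hT' (Subgroup.mem_zpowers y)
  refine ⟨(T : Subgroup L).map L.subtype, T.2.map _, ?_, ?_⟩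
  · -- the image is a Sylow subgroup
    have h1 : ((T : Subgroup L).map L.subtype).map f ≤ P := by
      rintro _ ⟨_, ⟨x, -, rfl⟩, rfl⟩
      exact x.2
    refine le_antisymm h1 ?_
    -- index of the image
    have hfL : Function.Surjective fL := by
      rintro ⟨y, hy⟩
      obtain ⟨x, rfl⟩ := hf y
      exact ⟨⟨x, hy⟩, rfl⟩
    have h2 : (T : Subgroup L).map fL = ⊤ := by
      have h3 : ¬ p ∣ ((T : Subgroup L).map fL).index := by
        intro h
        exact T.not_dvd_index (h.trans (Subgroup.index_map_dvd _ hfL))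
      have h4 : ((T : Subgroup L).map fL).index ∣ Nat.card (P : Subgroup Q) := Subgroup.index_dvd_card _
      obtain ⟨n, hn⟩ := IsPGroup.iff_card.1 P.2
      rw [hn] at h4
      obtain ⟨k, -, hk⟩ := (Nat.dvd_prime_pow hp.out).1 h4
      rcases Nat.eq_zero_or_pos k with h5 | h5
      · rw [h5, pow_zero] at hk
        exact Subgroup.index_eq_one.1 hk
      · exfalso
        apply h3
        rw [hk]
        exact dvd_pow_self p (by omega)
    intro y hy
    have h3 : (⟨y, hy⟩ : (P : Subgroup Q)) ∈ (T : Subgroup L).map fL := by rw [h2]; trivial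
    obtain ⟨x, hx, hxy⟩ := h3
    exact ⟨x, ⟨x, hx, rfl⟩, congrArg Subtype.val hxy⟩
  · have key : ∀ r ∈ R, ∀ x ∈ (T : Subgroup L).map L.subtype, r * x * r⁻¹ ∈ (T : Subgroup L).map L.subtype := by
      rintro r hr _ ⟨x, hx, rfl⟩
      have h1 : r * (x : G) * r⁻¹ ∈ L := ((Subgroup.mem_normalizer_iff.1 (hRL hr)) _).1 x.2
      refine ⟨⟨_, h1⟩, hall _ ?_, rfl⟩
      obtain ⟨k, hk⟩ := (IsPGroup.iff_orderOf.1 T.2) ⟨x, hx⟩
      refine ⟨k, ?_⟩
      rw [← hk, Subgroup.orderOf_mk, Subgroup.orderOf_mk]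
      have h2 := orderOf_injective (MulAut.conj r).toMonoidHom (MulAut.conj r).injective (x : G)
      rw [← Subgroup.orderOf_coe x, ← h2]
      rfl
    intro r hr
    rw [Subgroup.mem_normalizer_iff]
    intro x
    refine ⟨fun h => key r hr x h, fun h => ?_⟩
    have h1 := key r⁻¹ (R.inv_mem hr) _ h
    have e : r⁻¹ * (r * x * r⁻¹) * r⁻¹⁻¹ = x := by group
    rwa [e] at h1

end lift

section sp1

variable (K : Type) [Field K]

/-- `Sp_2 → PSL_2` -/
noncomputable def toPsl : spGL 1 K →* ProjectiveSpecialLinearGroup (Fin 2) K :=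
  (Cfsg.Agent.H262.Rx.pspOne K).toMonoidHom.comp (Cfsg.Agent.H16.PSp4.prj 1 K)

theorem toPsl_surj : Function.Surjective (toPsl K) :=
  (Cfsg.Agent.H262.Rx.pspOne K).surjective.comp Cfsg.Agent.H16.PSp4.prj_surj

theorem toPsl_ker : (toPsl K).ker ≤ Subgroup.center (spGL 1 K) := by
  intro x hx
  apply Cfsg.Agent.H16.PSp4.prj_ker
  rw [MonoidHom.mem_ker] at hx ⊢
  have h1 : Cfsg.Agent.H262.Rx.pspOne K (Cfsg.Agent.H16.PSp4.prj 1 K x) = 1 := hx
  exact (map_eq_one_iff _ (Cfsg.Agent.H262.Rx.pspOne K).injective).1 h1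

variable {K} [Fintype K]

theorem card_sp1 : Nat.card (spGL 1 K) = Fintype.card K * (Fintype.card K ^ 2 - 1) := by
  rw [Cfsg.Agent.H955.card_spGL]
  simp

theorem card_ker1 : Nat.card (toPsl K).ker = Nat.gcd 2 (Fintype.card K - 1) := by
  have hfin : Finite (GL (Fin 1 ⊕ Fin 1) K) := inferInstance
  have h1 : Nat.card (spGL 1 K) = Nat.card (toPsl K).ker * Nat.card (ProjectiveSpecialLinearGroup (Fin 2) K) := by
    rw [Subgroup.card_eq_card_quotient_mul_card_subgroup (toPsl K).ker, mul_comm]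
    congr 1
    exact Nat.card_congr (QuotientGroup.quotientKerEquivOfSurjective _ (toPsl_surj K)).toEquiv
  rw [card_sp1, ← Cfsg.Agent.H394.SqPsl2.card_psl (F := K)] at h1
  have hfin2 : Finite (ProjectiveSpecialLinearGroup (Fin 2) K) := Quotient.finite _
  exact (Nat.eq_of_mul_eq_mul_right Nat.card_pos h1).symm

variable {p N : ℕ} [hp : Fact p.Prime] [CharP K p]

theorem cop_ker1 (hK : Fintype.card K = p ^ N) (hN : 1 ≤ N) : Nat.Coprime p (Nat.card (toPsl K).ker) := by
  rw [card_ker1]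
  rw [Nat.Prime.coprime_iff_not_dvd hp.out]
  intro h
  have h1 : p ∣ Fintype.card K - 1 := h.trans (Nat.gcd_dvd_right _ _)
  have h2 : p ∣ Fintype.card K := by rw [hK]; exact dvd_pow_self p (by omega)
  have h4 := Nat.dvd_sub h2 h1
  have hK1 : 1 < Fintype.card K := Fintype.one_lt_card
  have h5 : Fintype.card K - (Fintype.card K - 1) = 1 := by omega
  rw [h5] at h4
  exact hp.out.one_lt.ne' (Nat.dvd_one.1 h4)

/-- the image in `PSL_2` -/
noncomputable def im1 (R : Subgroup (GL (Fin 1 ⊕ Fin 1) K)) : Subgroup (ProjectiveSpecialLinearGroup (Fin 2) K) :=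
  (R.subgroupOf (spGL 1 K)).map (toPsl K)

omit [Fintype K] in
theorem card_map_dvd {G Q : Type*} [Group G] [Finite G] [Group Q] (f : G →* Q) (R : Subgroup G) :
    Nat.card R ∣ Nat.card (R.map f) * Nat.card f.ker := by
  have h1 : Nat.card R = Nat.card (R.map f) * Nat.card (f.ker.subgroupOf R) := by
    rw [Subgroup.card_eq_card_quotient_mul_card_subgroup (f.ker.subgroupOf R)]
    congr 1
    have h2 : (f.comp R.subtype).ker = f.ker.subgroupOf R := rfl
    have h3 : (f.comp R.subtype).range = R.map f := by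
      rw [MonoidHom.range_comp, Subgroup.range_subtype]
    rw [← h2, ← h3]
    exact Nat.card_congr (QuotientGroup.quotientKerEquivRange (f.comp R.subtype)).toEquiv
  rw [h1]
  refine Nat.mul_dvd_mul_left _ ?_
  have h4 : Nat.card (f.ker.subgroupOf R) = Nat.card ((f.ker.subgroupOf R).map R.subtype) :=
    (Subgroup.card_map_of_injective R.subtype_injective).symm
  rw [h4]
  apply Subgroup.card_dvd_of_le
  rintro _ ⟨x, hx, rfl⟩
  exact hx

theorem card_im1 {R : Subgroup (GL (Fin 1 ⊕ Fin 1) K)} (hR : R ≤ spGL 1 K) :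
    Nat.card R ∣ Nat.card (im1 R) * Nat.card (toPsl K).ker := by
  have hfin : Finite (GL (Fin 1 ⊕ Fin 1) K) := inferInstance
  have h1 := card_map_dvd (toPsl K) (R.subgroupOf (spGL 1 K))
  rwa [Nat.card_congr (Subgroup.subgroupOfEquivOfLe hR).toEquiv] at h1

theorem le_of_im1 {R : Subgroup (GL (Fin 1 ⊕ Fin 1) K)} (h4 : 4 ≤ Fintype.card K) (h : im1 R = ⊤) : spGL 1 K ≤ R := by
  have h1 := eq_top_of_map (toPsl K) (toPsl_surj K) (toPsl_ker K)
    (Cfsg.Agent.H16.PSp4.spGL_perfect (Or.inr (Or.inr h4))) _ h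
  exact Subgroup.subgroupOf_eq_top.1 h1

/-- subgroups of `Sp_2` with a large prime -/
theorem sp1_pp (hK : Fintype.card K = p ^ N) (hN : 1 ≤ N) (h4 : 4 ≤ Fintype.card K) {r : ℕ} (hr : PP p (2 * N) r)
    {R : Subgroup (GL (Fin 1 ⊕ Fin 1) K)} (hR : R ≤ spGL 1 K) (hrR : r ∣ Nat.card R) :
    spGL 1 K ≤ R ∨ Nat.card R ≤ 4 * (Fintype.card K + 1) ∨ Nat.card R ≤ 120 := by
  have hfin2 : Finite (ProjectiveSpecialLinearGroup (Fin 2) K) := Quotient.finite _
  have h1 := card_im1 hR
  have hle : Nat.card (toPsl K).ker ≤ 2 := by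
    rw [card_ker1]; exact Nat.gcd_le_left _ (by norm_num)
  have hdv : Nat.card (toPsl K).ker ∣ 2 := by
    rw [card_ker1]; exact Nat.gcd_dvd_left _ _
  have hfin : Finite (GL (Fin 1 ⊕ Fin 1) K) := inferInstance
  have hpos : 0 < Nat.card (im1 R) * Nat.card (toPsl K).ker := Nat.mul_pos Nat.card_pos Nat.card_pos
  have h2 := Nat.le_of_dvd hpos h1
  have h3 : Nat.card R ≤ Nat.card (im1 R) * 2 := h2.trans (Nat.mul_le_mul_left _ hle)
  have hr2 : r ∣ Nat.card (im1 R) := by
    rcases hr.prime.dvd_mul.1 (hrR.trans h1) with h | h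
    · exact h
    · exfalso
      have h5 := Nat.le_of_dvd (by norm_num) (h.trans hdv)
      have h6 := hr.lt (by omega)
      omega
  rcases psl_of_pp hK hN hr (im1 R) hr2 with h | h | h
  · exact Or.inl (le_of_im1 h4 h)
  · right; left; omega
  · right; right; omega

/-- a `p`-group has a non-zero fixed vector -/
theorem exists_fixed {κ : Type*} [Fintype κ] [DecidableEq κ] [Nonempty κ] {L : Type*} [Field L] [Fintype L] {p : ℕ}
    [hp : Fact p.Prime] [CharP L p] {S : Subgroup (GL κ L)} (hS : IsPGroup p S) :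
    ∃ v : κ → L, v ≠ 0 ∧ ∀ g ∈ S, (g : Matrix κ κ L) *ᵥ v = v := by
  classical
  let A : MulAction S (κ → L) :=
    { smul := fun g v => ((g : GL κ L) : Matrix κ κ L) *ᵥ v
      one_smul := fun v => Matrix.one_mulVec v
      mul_smul := fun g h v => (Matrix.mulVec_mulVec v _ _).symm }
  have hsm : ∀ (g : S) (v : κ → L), g • v = ((g : GL κ L) : Matrix κ κ L) *ᵥ v := fun _ _ => rfl
  have h0 : (0 : κ → L) ∈ MulAction.fixedPoints S (κ → L) := fun g => by rw [hsm, Matrix.mulVec_zero]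
  have hd : p ∣ Nat.card (κ → L) := by
    obtain ⟨n, -, hn⟩ := FiniteField.card L p
    rw [Nat.card_fun, Nat.card_eq_fintype_card (α := L), hn]
    exact (dvd_pow_self p n.ne_zero).trans (dvd_pow_self _ (by rw [Nat.card_eq_fintype_card]; exact Fintype.card_ne_zero))
  obtain ⟨v, hv, hv0⟩ := hS.exists_fixed_point_of_prime_dvd_card_of_fixed_point (κ → L) hd h0
  exact ⟨v, hv0.symm, fun g hg => hv ⟨g, hg⟩⟩

/-- subgroups of `Sp_2` with a large `p`-part -/
theorem sp1_part (hK : Fintype.card K = p ^ N) (hN : 1 ≤ N) (h4 : 4 ≤ Fintype.card K) {b : ℕ} (hb : Fintype.card K < p ^ b * p ^ b)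
    (h8 : 8 < p ^ b) {R : Subgroup (GL (Fin 1 ⊕ Fin 1) K)} (hR : R ≤ spGL 1 K) (hbR : p ^ b ∣ Nat.card R) :
    spGL 1 K ≤ R ∨ ∃ v : Fin 1 ⊕ Fin 1 → K, v ≠ 0 ∧ ∀ g ∈ R, ∃ c : K, (g : Matrix (Fin 1 ⊕ Fin 1) (Fin 1 ⊕ Fin 1) K) *ᵥ v = c • v := by
  classical
  have hfin : Finite (GL (Fin 1 ⊕ Fin 1) K) := inferInstance
  have hfin2 : Finite (ProjectiveSpecialLinearGroup (Fin 2) K) := Quotient.finite _
  have h1 := card_im1 hR
  have hcop : Nat.Coprime (p ^ b) (Nat.card (toPsl K).ker) := Nat.Coprime.pow_left _ (cop_ker1 hK hN)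
  have hb1 : p ^ b ∣ Nat.card (im1 R) := hcop.dvd_of_dvd_mul_right (hbR.trans h1)
  have hbpos : 1 ≤ b := by
    rcases Nat.eq_zero_or_pos b with rfl | h
    · rw [pow_zero] at h8; omega
    · exact h
  rcases psl_of_part hK hN hb h8 (im1 R) hb1 with h | ⟨P, hP⟩
  · exact Or.inl (le_of_im1 h4 h)
  · right
    obtain ⟨S, hSp, hSP, hRS⟩ := exists_lift (toPsl K) (toPsl_surj K) (toPsl_ker K) P (R.subgroupOf (spGL 1 K)) hP
    have hPne : (P : Subgroup (ProjectiveSpecialLinearGroup (Fin 2) K)) ≠ ⊥ :=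
      P.ne_bot_of_dvd_card ((dvd_pow_self p (by omega)).trans (hb1.trans (Subgroup.card_subgroup_dvd_card _)))
    have hSne : S ≠ ⊥ := by
      rintro rfl
      rw [Subgroup.map_bot] at hSP
      exact hPne hSP.symm
    set S' : Subgroup (GL (Fin 1 ⊕ Fin 1) K) := S.map (spGL 1 K).subtype with hS'
    have hS'p : IsPGroup p S' := hSp.map _
    obtain ⟨v, hv0, hv⟩ := exists_fixed hS'p
    refine ⟨v, hv0, fun g hg => ?_⟩
    have hgv : ∀ x ∈ S', (x : Matrix (Fin 1 ⊕ Fin 1) (Fin 1 ⊕ Fin 1) K) *ᵥ ((g : Matrix (Fin 1 ⊕ Fin 1) (Fin 1 ⊕ Fin 1) K) *ᵥ v) =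
        (g : Matrix (Fin 1 ⊕ Fin 1) (Fin 1 ⊕ Fin 1) K) *ᵥ v := by
      rintro _ ⟨x, hx, rfl⟩
      have h2 : (⟨g, hR hg⟩ : spGL 1 K) ∈ Subgroup.normalizer (S : Set (spGL 1 K)) := hRS (Subgroup.mem_subgroupOf.2 hg)
      have h3 := ((Subgroup.mem_normalizer_iff''.1 h2) x).1 hx
      have h5 := hv _ ⟨_, h3, rfl⟩
      have h6 : (((spGL 1 K).subtype (⟨g, hR hg⟩⁻¹ * x * ⟨g, hR hg⟩) : GL (Fin 1 ⊕ Fin 1) K) : Matrix (Fin 1 ⊕ Fin 1) (Fin 1 ⊕ Fin 1) K) =
          ((g⁻¹ : GL (Fin 1 ⊕ Fin 1) K) : Matrix (Fin 1 ⊕ Fin 1) (Fin 1 ⊕ Fin 1) K) * (x : GL (Fin 1 ⊕ Fin 1) K) * (g : Matrix (Fin 1 ⊕ Fin 1) (Fin 1 ⊕ Fin 1) K) := rfl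
      rw [h6, ← mulVec_mulVec, ← mulVec_mulVec] at h5
      have h7 := congrArg (fun w => (g : Matrix (Fin 1 ⊕ Fin 1) (Fin 1 ⊕ Fin 1) K) *ᵥ w) h5
      rw [mulVec_mulVec, ← Units.val_mul, mul_inv_cancel, Units.val_one, one_mulVec] at h7
      exact h7
    -- the fixed space is a line
    by_contra hcon
    push Not at hcon
    -- `v` and `g v` are a basis
    apply hSne
    rw [Subgroup.eq_bot_iff_forall]
    intro x hx
    have hli : LinearIndependent K ![v, (g : Matrix (Fin 1 ⊕ Fin 1) (Fin 1 ⊕ Fin 1) K) *ᵥ v] := by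
      rw [LinearIndependent.pair_iff' hv0]
      intro a ha
      exact hcon a ha.symm
    have hb2 : Submodule.span K (Set.range ![v, (g : Matrix (Fin 1 ⊕ Fin 1) (Fin 1 ⊕ Fin 1) K) *ᵥ v]) = ⊤ := by
      apply hli.span_eq_top_of_card_eq_finrank
      rw [Module.finrank_fintype_fun_eq_card, Fintype.card_sum]
      simp
    apply Subtype.ext
    apply Units.ext
    apply eq_of_mulVec
    intro y
    have hy : y ∈ Submodule.span K (Set.range ![v, (g : Matrix (Fin 1 ⊕ Fin 1) (Fin 1 ⊕ Fin 1) K) *ᵥ v]) := by rw [hb2]; trivial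
    have hx' : (x : GL (Fin 1 ⊕ Fin 1) K) ∈ S' := ⟨x, hx, rfl⟩
    show ((x : GL (Fin 1 ⊕ Fin 1) K) : Matrix (Fin 1 ⊕ Fin 1) (Fin 1 ⊕ Fin 1) K) *ᵥ y = (1 : Matrix (Fin 1 ⊕ Fin 1) (Fin 1 ⊕ Fin 1) K) *ᵥ y
    rw [one_mulVec]
    induction hy using Submodule.span_induction with
    | mem y hy =>
      obtain ⟨i, rfl⟩ := hy
      fin_cases i
      · exact hv _ hx'
      · exact hgv _ hx'
    | zero => rw [mulVec_zero]
    | add y z _ _ h1 h2 => rw [mulVec_add, h1, h2]
    | smul a y _ h1 => rw [mulVec_smul, h1]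

end sp1

end Cfsg.Agent.H402.Rg
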