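import Cfsg.Agent.H402.Rg.TwoG
import Cfsg.Agent.H402.Rg.Sta

/-!
# Subgroups of `Sp_4(q)`, `q` odd, without elements of rank two: the main argument
-/

set_option autoImplicit false
set_option linter.unusedSectionVars false

namespace Cfsg.Agent.H402.Rg

open Module Matrix Cfsg Cfsg.Geo
open scoped MatrixGroups Matrix commutatorElement
open Cfsg.Agent.ClassicalGeometry.SympBasic

section dimtwo

variable {F : Type*} [Field F]

/-- elements of `Sp_2` with a fixed vector are transvections -/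
theorem sp1_tv {A : GL (Fin 1 ⊕ Fin 1) F} (hA : A ∈ spGL 1 F) {y₀ : Fin 1 ⊕ Fin 1 → F} (h0 : y₀ ≠ 0)
    (hy : (A : Matrix (Fin 1 ⊕ Fin 1) (Fin 1 ⊕ Fin 1) F) *ᵥ y₀ = y₀) :
    ∃ b : F, ∀ y, (A : Matrix (Fin 1 ⊕ Fin 1) (Fin 1 ⊕ Fin 1) F) *ᵥ y = y + (b * sympForm 1 F y₀ y) • y₀ := by
  obtain ⟨z, hz⟩ := exists_pair h0
  have h1 := (Cd.mem_spGL.1 hA) y₀ z
  rw [hy, hz] at h1
  have h2 := pluck y₀ z ((A : Matrix (Fin 1 ⊕ Fin 1) (Fin 1 ⊕ Fin 1) F) *ᵥ z)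
  rw [hz, one_smul, h1, one_smul] at h2
  refine ⟨sympForm 1 F ((A : Matrix (Fin 1 ⊕ Fin 1) (Fin 1 ⊕ Fin 1) F) *ᵥ z) z, fun y => ?_⟩
  have h3 := pluck y₀ z y
  rw [hz, one_smul] at h3
  conv_lhs => rw [h3, mulVec_add, mulVec_smul, mulVec_smul, hy, h2]
  conv_rhs => arg 1; rw [h3]
  module

variable [Fintype F] {p : ℕ} [hp : Fact p.Prime] [CharP F p] {Y : Subgroup (GL (Fin 2 ⊕ Fin 2) F)}

/-- **(c)** -/
theorem sta_no {fr : Fr 1 2 F} (h : fr.Sta Y) (hno : ∀ g ∈ Y, ¬ Two g) {a : F} (ha : a ∈ TA Y fr.u) (ha0 : a ≠ 0) :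
    ¬ p ∣ Nat.card (Fr.r₁ h).ker := by
  intro hd
  have hfin : Finite (GL (Fin 2 ⊕ Fin 2) F) := inferInstance
  obtain ⟨⟨x, hx⟩, hxo⟩ := exists_prime_orderOf_dvd_card' p hd
  have hx1 := (act_eq_one fr.π₁ι₁ h.h₁ x).1 hx
  have hx1 : ∀ y, ((x : GL (Fin 2 ⊕ Fin 2) F) : Matrix (Fin 2 ⊕ Fin 2) (Fin 2 ⊕ Fin 2) F) *ᵥ fr.ι₁ y = fr.ι₁ y := hx1
  have hxo' : orderOf x = p := by
    rw [← hxo]
    exact Subgroup.orderOf_coe (⟨x, hx⟩ : (Fr.r₁ h).ker)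
  set A := Fr.r₂ h x with hA
  have hAp : A ^ p = 1 := by rw [hA, ← map_pow, ← hxo', pow_orderOf_eq_one, map_one]
  have hS : IsPGroup p (Subgroup.zpowers A) := by
    have h1 : orderOf A ∣ p := orderOf_dvd_of_pow_eq_one hAp
    rcases (Nat.dvd_prime hp.out).1 h1 with h2 | h2
    · exact IsPGroup.of_card (n := 0) (by rw [Nat.card_zpowers, h2, pow_zero])
    · exact IsPGroup.of_card (n := 1) (by rw [Nat.card_zpowers, h2, pow_one])
  obtain ⟨y₀, hy0, hy⟩ := exists_fixed hS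
  obtain ⟨b, hb⟩ := sp1_tv (Fr.r₂_mem h x) hy0 (hy A (Subgroup.mem_zpowers A))
  have hgx : ∀ z, ((x : GL (Fin 2 ⊕ Fin 2) F) : Matrix (Fin 2 ⊕ Fin 2) (Fin 2 ⊕ Fin 2) F) *ᵥ z =
      z + (b * sympForm 2 F (fr.ι y₀) z) • fr.ι y₀ := by
    intro z
    conv_lhs => rw [fr.dec₁ z]
    rw [mulVec_add, hx1, ← Fr.ι_r₂ h x, hb, map_add, map_smul, ← fr.form_π]
    conv_rhs => arg 1; rw [fr.dec₁ z]
    abel
  have hb0 : b ≠ 0 := by
    rintro rfl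
    have : x = 1 := by
      apply Subtype.ext
      apply Units.ext
      apply eq_of_mulVec
      intro z
      rw [hgx, zero_mul, zero_smul, add_zero, Subgroup.coe_one, Units.val_one, one_mulVec]
    rw [this, orderOf_one] at hxo'
    exact hp.out.one_lt.ne hxo'
  obtain ⟨g, hg, hg2⟩ := two_of_TA (u₁ := fr.u) (u₂ := fr.ι y₀) fr.u_ne (fun c hc => by
      apply hy0
      refine eq_zero_of_forall_sympForm_right fun y => ?_
      rw [← fr.form, hc, sympForm_smul_left, fr.uι, mul_zero]) (fr.uι _) ha ha0 ⟨x, x.2, hgx⟩ hb0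
  exact hno g hg hg2

end dimtwo

section caseA

variable {F : Type} [Field F] [Fintype F] {p f : ℕ} [hp : Fact p.Prime] [CharP F p] {Y : Subgroup (GL (Fin 2 ⊕ Fin 2) F)}

/-- the elements which are trivial on the orthogonal space -/
def Triv (fr : Fr 1 2 F) (Y : Subgroup (GL (Fin 2 ⊕ Fin 2) F)) : Subgroup (GL (Fin 2 ⊕ Fin 2) F) where
  carrier := {g | g ∈ Y ∧ ∀ y, (g : Matrix (Fin 2 ⊕ Fin 2) (Fin 2 ⊕ Fin 2) F) *ᵥ fr.ι y = fr.ι y}
  one_mem' := ⟨Y.one_mem, fun y => by rw [Units.val_one, one_mulVec]⟩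
  mul_mem' := by
    rintro g g' ⟨h1, h2⟩ ⟨h3, h4⟩
    refine ⟨Y.mul_mem h1 h3, fun y => ?_⟩
    rw [Units.val_mul, ← mulVec_mulVec, h4, h2]
  inv_mem' := by
    rintro g ⟨h1, h2⟩
    refine ⟨Y.inv_mem h1, fun y => ?_⟩
    conv_lhs => rw [← h2 y]
    rw [inv_mulVec']

theorem triv_sta {fr : Fr 1 2 F} (hY : Y ≤ spGL 2 F) : fr.Sta (Triv fr Y) := by
  have key : ∀ g ∈ Triv fr Y, ∀ x, (∀ y, sympForm 2 F (fr.ι y) x = 0) →
      fr.π ((g : Matrix (Fin 2 ⊕ Fin 2) (Fin 2 ⊕ Fin 2) F) *ᵥ x) = 0 := by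
    rintro g ⟨hg, h1⟩ x hx
    refine eq_zero_of_forall_sympForm_left fun y => ?_
    rw [← fr.form_π, ← h1 y, (Cd.mem_spGL.1 (hY hg)), hx]
  refine ⟨fun g hg => hY hg.1, fun g hg => ⟨key g hg _ fr.ιu, key g hg _ fr.ιv⟩⟩

/-- **(d)** -/
theorem caseA (hF : Fintype.card F = p ^ f) (hf : 1 ≤ f) (h4 : 4 ≤ Fintype.card F) {b : ℕ}
    (hb : Fintype.card F < p ^ b * p ^ b) (h8 : 8 < p ^ b) (hY : Y ≤ spGL 2 F) (hno : ∀ g ∈ Y, ¬ Two g) {fr : Fr 1 2 F}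
    (hbu : p ^ b ∣ Nat.card (TA Y fr.u)) {a : F} (ha : a ∈ TA Y fr.v) (ha0 : a ≠ 0) : fr.Sta Y := by
  classical
  have hfin1 : Finite (GL (Fin 1 ⊕ Fin 1) F) := inferInstance
  have h := triv_sta (fr := fr) hY
  set R := (Fr.r₁ h).range with hR
  have hRS : R ≤ spGL 1 F := by
    rintro _ ⟨x, rfl⟩
    exact Fr.r₁_mem h _
  -- transvections
  have key : ∀ η : Fin 1 ⊕ Fin 1 → F, TA Y (fr.ι₁ η) ≤ TA R η := by
    rintro η a ⟨g, hg, h1⟩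
    have hgT : g ∈ Triv fr Y := ⟨hg, fun y => by rw [h1, fr.orth₁, mul_zero, zero_smul, add_zero]⟩
    refine ⟨_, ⟨⟨g, hgT⟩, rfl⟩, fun y => ?_⟩
    rw [← fr.π₁ι₁ (((Fr.r₁ h ⟨g, hgT⟩ : GL (Fin 1 ⊕ Fin 1) F) : Matrix (Fin 1 ⊕ Fin 1) (Fin 1 ⊕ Fin 1) F) *ᵥ y), Fr.ι₁_r₁,
      h1, map_add, map_smul, fr.π₁ι₁, fr.π₁ι₁, fr.form₁]
  set yu : Fin 1 ⊕ Fin 1 → F := Pi.single (Sum.inr 0) 1 with hyu
  set yv : Fin 1 ⊕ Fin 1 → F := Pi.single (Sum.inl 0) 1 with hyv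
  have e1 : fr.ι₁ yu = fr.u := by rw [Fr.ι₁_apply, hyu]; simp
  have e2 : fr.ι₁ yv = fr.v := by rw [Fr.ι₁_apply, hyv]; simp
  have hyu0 : yu ≠ 0 := by
    intro h0
    rw [h0, map_zero] at e1
    exact fr.u_ne e1.symm
  have hbR : p ^ b ∣ Nat.card R := by
    have h1 : Nat.card (TA Y fr.u) ∣ Nat.card (TA R yu) := by
      rw [← e1]
      exact AddSubgroup.card_dvd_of_le (key yu)
    exact (hbu.trans h1).trans (card_TA_dvd R hyu0)
  -- a nontrivial transvection with centre `u`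
  obtain ⟨a₁, ha₁, ha₁0⟩ : ∃ a₁ ∈ TA Y fr.u, a₁ ≠ 0 := by
    have h1 : 1 < Nat.card (TA Y fr.u) := by
      have := Nat.le_of_dvd Nat.card_pos hbu
      omega
    have h2 : Nontrivial (TA Y fr.u) := Finite.one_lt_card_iff_nontrivial.1 h1
    obtain ⟨x, hx⟩ := exists_ne (0 : TA Y fr.u)
    exact ⟨x, x.2, fun h0 => hx (Subtype.ext h0)⟩
  -- lines
  have line : ∀ (η : Fin 1 ⊕ Fin 1 → F) (c : F), c ∈ TA R η → c ≠ 0 → η ≠ 0 → ∀ z : Fin 1 ⊕ Fin 1 → F,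
      (∀ g ∈ R, ∃ s : F, (g : Matrix (Fin 1 ⊕ Fin 1) (Fin 1 ⊕ Fin 1) F) *ᵥ z = s • z) → sympForm 1 F η z = 0 := by
    rintro η c ⟨g, hg, h1⟩ hc hη z hz
    by_contra hne
    obtain ⟨s, hs⟩ := hz g hg
    have h2 := congrArg (fun x => sympForm 1 F η x) ((h1 z).symm.trans hs)
    simp only [sympForm_add_right, sympForm_smul_right, sympForm_self, mul_zero, add_zero] at h2
    have h3 : s = 1 := by
      have : (s - 1) * sympForm 1 F η z = 0 := by linear_combination -h2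
      rcases mul_eq_zero.1 this with h4 | h4
      · linear_combination h4
      · exact absurd h4 hne
    rw [h3, one_smul, h1 z] at hs
    have h4 : (c * sympForm 1 F η z) • η = 0 := by
      have := hs
      rw [add_eq_left] at this
      exact this
    rcases smul_eq_zero.1 h4 with h5 | h5
    · exact (mul_ne_zero hc hne) h5
    · exact hη h5
  have hyv0 : yv ≠ 0 := by
    intro h0
    rw [h0, map_zero] at e2
    have := fr.uv
    rw [← e2, sympForm_zero_right] at this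
    exact zero_ne_one this
  have hfull : spGL 1 F ≤ R := by
    rcases sp1_part hF hf h4 hb h8 hRS hbR with h1 | ⟨z, hz0, hz⟩
    · exact h1
    · exfalso
      apply hz0
      have h1 := line yu a₁ (key yu (by rw [e1]; exact ha₁)) ha₁0 hyu0 z hz
      have h2 := line yv a (key yv (by rw [e2]; exact ha)) ha0 hyv0 z hz
      rw [hyu, sympForm_single_inr_left] at h1
      rw [hyv, sympForm_single_inl_left, neg_eq_zero] at h2
      ext i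
      rcases i with i | i
      · rw [Subsingleton.elim i 0]; exact h1
      · rw [Subsingleton.elim i 0]; exact h2
  -- all transvections of the plane
  have hall : ∀ η : Fin 1 ⊕ Fin 1 → F, (1 : F) ∈ TA Y (fr.ι₁ η) := by
    intro η
    obtain ⟨A, hA, hAx⟩ := exists_spGL (m := 1) (F := F) (Matrix.toLin' (sympTransvection 1 η (-1)))
      (fun x y => by
        rw [Matrix.toLin'_apply, Matrix.toLin'_apply]
        exact sympForm_mulVec (sympTransvection_mem _ _) x y)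
    have hAx' : ∀ x, (A : Matrix (Fin 1 ⊕ Fin 1) (Fin 1 ⊕ Fin 1) F) *ᵥ x = x + (sympForm 1 F η x) • η := by
      intro x
      rw [hAx, Matrix.toLin'_apply, sympTransvection_mulVec, sympForm_swap x η]
      ring_nf
    obtain ⟨g, hg⟩ := hfull hA
    refine ⟨g, g.2.1, fun x => ?_⟩
    conv_lhs => rw [fr.dec₁ x]
    rw [mulVec_add, g.2.2, ← Fr.ι₁_r₁ h g, hg, hAx', map_add, map_smul, one_mul]
    have h5 : sympForm 2 F (fr.ι₁ η) x = sympForm 1 F η (fr.π₁ x) := by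
      conv_lhs => rw [fr.dec₁ x]
      rw [sympForm_add_right, fr.form₁, fr.orth₁, add_zero]
    rw [h5]
    conv_rhs => arg 1; rw [fr.dec₁ x]
    abel
  -- conclusion
  have fin : ∀ g ∈ Y, ∀ z : Fin 2 ⊕ Fin 2 → F, (∃ c ∈ TA Y z, c ≠ 0) →
      fr.π ((g : Matrix (Fin 2 ⊕ Fin 2) (Fin 2 ⊕ Fin 2) F) *ᵥ z) = 0 := by
    rintro g hg z ⟨c, hc, hc0⟩
    by_contra hne
    set x := (g : Matrix (Fin 2 ⊕ Fin 2) (Fin 2 ⊕ Fin 2) F) *ᵥ z with hx
    obtain ⟨η, hη0, hη⟩ : ∃ η : Fin 1 ⊕ Fin 1 → F, η ≠ 0 ∧ sympForm 1 F η (fr.π₁ x) = 0 := by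
      by_cases h0 : fr.π₁ x = 0
      · exact ⟨yu, hyu0, by rw [h0, sympForm_zero_right]⟩
      · exact ⟨_, h0, sympForm_self _⟩
    have h5 : sympForm 2 F (fr.ι₁ η) x = 0 := by
      conv_lhs => rw [fr.dec₁ x]
      rw [sympForm_add_right, fr.form₁, fr.orth₁, add_zero, hη]
    obtain ⟨k, hk, hk2⟩ := two_of_TA (u₁ := fr.ι₁ η) (u₂ := x) (fun h0 => hη0 (by
        rw [← fr.π₁ι₁ η, h0, map_zero])) (fun s hs => hne (by rw [hs, map_smul, fr.ππ₁, smul_zero])) h5 (hall η) one_ne_zero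
        (TA_conj hY hg hc) hc0
    exact hno k hk hk2
  exact ⟨hY, fun g hg => ⟨fin g hg _ ⟨a₁, ha₁, ha₁0⟩, fin g hg _ ⟨a, ha, ha0⟩⟩⟩

end caseA

section caseB

variable {F : Type} [Field F] [Fintype F] {p f : ℕ} [hp : Fact p.Prime] [CharP F p] {Y : Subgroup (GL (Fin 2 ⊕ Fin 2) F)}

/-- **(e)** -/
theorem caseB (h4 : 4 ≤ Fintype.card F) (hp2 : p ≠ 2) (hno : ∀ g ∈ Y, ¬ Two g) {fr : Fr 1 2 F} (h : fr.Par Y)
    (hfull : spGL 1 F ≤ (fr.rho h.ok).range) : ∃ fr' : Fr 1 2 F, fr'.u = fr.u ∧ fr'.Sta Y := by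
  classical
  have h2 : (2 : F) ≠ 0 := by
    intro h0
    have h1 : ((2 : ℕ) : F) = 0 := by exact_mod_cast h0
    rw [CharP.cast_eq_zero_iff F p] at h1
    exact hp2 ((Nat.prime_dvd_prime_iff_eq hp.out Nat.prime_two).1 h1)
  have hsp : ∀ g ∈ Y, ∀ x y, sympForm 2 F ((g : Matrix (Fin 2 ⊕ Fin 2) (Fin 2 ⊕ Fin 2) F) *ᵥ x)
      ((g : Matrix (Fin 2 ⊕ Fin 2) (Fin 2 ⊕ Fin 2) F) *ᵥ y) = sympForm 2 F x y := fun g hg => Cd.mem_spGL.1 (h.1 hg)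
  have hQT : ∀ g, g ∈ Fr.Q h → g ∈ Fr.T h := by
    intro g hg
    by_contra hgT
    exact hno g (Fr.Q_le h hg) (two_of_Q h2 h hg hgT)
  -- an element `y` with `y u = u` and `ρ y = -1`
  have hneg : (-1 : GL (Fin 1 ⊕ Fin 1) F) ∈ spGL 1 F := by
    rw [Cd.mem_spGL]
    intro x y
    rw [Units.val_neg, Units.val_one, neg_mulVec, neg_mulVec, one_mulVec, one_mulVec, sympForm_neg_left, sympForm_neg_right,
      neg_neg]
  have hcomm : spGL 1 F ≤ ((Fr.cc h).ker).map (fr.rho h.ok) := by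
    have h1 : (((Fr.cc h).ker).map (fr.rho h.ok)).subgroupOf (spGL 1 F) = ⊤ := by
      rw [eq_top_iff, ← Cfsg.Agent.H16.PSp4.spGL_perfect (m := 1) (F := F) (Or.inr (Or.inr h4)), commutator_def,
        Subgroup.commutator_le]
      rintro ⟨a, ha⟩ - ⟨b, hb⟩ -
      obtain ⟨g, rfl⟩ := hfull ha
      obtain ⟨g', rfl⟩ := hfull hb
      rw [Subgroup.mem_subgroupOf]
      refine ⟨⁅g, g'⁆, ?_, ?_⟩
      · show Fr.cc h ⁅g, g'⁆ = 1
        rw [map_commutatorElement, commutatorElement_eq_one_iff_mul_comm, mul_comm]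
      · rw [map_commutatorElement]
        rfl
    exact Subgroup.subgroupOf_eq_top.1 h1
  obtain ⟨y, hy1, hy2⟩ := hcomm hneg
  have hyu : ((y : GL (Fin 2 ⊕ Fin 2) F) : Matrix (Fin 2 ⊕ Fin 2) (Fin 2 ⊕ Fin 2) F) *ᵥ fr.u = fr.u := by
    have k1 := Fr.cc_smul h y
    have k2 : Fr.cc h y = 1 := hy1
    rwa [k2, Units.val_one, one_smul] at k1
  have hyι : ∀ z, fr.π (((y : GL (Fin 2 ⊕ Fin 2) F) : Matrix (Fin 2 ⊕ Fin 2) (Fin 2 ⊕ Fin 2) F) *ᵥ fr.ι z) = -z := by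
    intro z
    rw [← Fr.rho_mulVec h.ok, hy2, Units.val_neg, Units.val_one, neg_mulVec, one_mulVec]
  -- elements with `ρ = -1`, `g u = u`
  let NN : GL (Fin 2 ⊕ Fin 2) F → Prop := fun g => g ∈ Y ∧ (g : Matrix (Fin 2 ⊕ Fin 2) (Fin 2 ⊕ Fin 2) F) *ᵥ fr.u = fr.u ∧
    ∀ z, fr.π ((g : Matrix (Fin 2 ⊕ Fin 2) (Fin 2 ⊕ Fin 2) F) *ᵥ fr.ι z) = -z
  -- the product of two of them is a transvection
  have hmul : ∀ g g', NN g → NN g' → ∃ a ∈ TA Y fr.u, ∀ x, (g : Matrix (Fin 2 ⊕ Fin 2) (Fin 2 ⊕ Fin 2) F) *ᵥ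
      ((g' : Matrix (Fin 2 ⊕ Fin 2) (Fin 2 ⊕ Fin 2) F) *ᵥ x) = x + (a * sympForm 2 F fr.u x) • fr.u := by
    rintro g g' ⟨a1, a2, a3⟩ ⟨b1, b2, b3⟩
    have k1 : g * g' ∈ Fr.Q h := by
      rw [Fr.mem_Q]
      refine ⟨Y.mul_mem a1 b1, ?_, fun z => ?_⟩
      · rw [Units.val_mul, ← mulVec_mulVec, b2, a2]
      · have k2 := Fr.ok_dec h.ok b1 z
        rw [fr.cmp_mulVec, b3] at k2
        rw [Units.val_mul, ← mulVec_mulVec, k2, mulVec_add, mulVec_smul, a2, map_add, map_smul, fr.πu, smul_zero, zero_add,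
          a3, neg_neg]
    have k3 := hQT _ k1
    refine ⟨_, Fr.mem_TA_of_T h k3, fun x => ?_⟩
    rw [mulVec_mulVec, ← Units.val_mul]
    exact Fr.T_eq h k3 x
  have hyN : NN y := ⟨y.2, hyu, hyι⟩
  obtain ⟨a, ha, hyy⟩ := hmul _ _ hyN hyN
  -- the involution
  obtain ⟨n, hn⟩ : ∃ n, p = 2 * n + 1 := by
    obtain ⟨n, hn⟩ := hp.out.odd_of_ne_two hp2
    exact ⟨n, hn⟩
  have hna : (n • a) ∈ TA Y fr.u := (TA Y fr.u).nsmul_mem ha n
  obtain ⟨τ, hτ, hτx⟩ := hna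
  have hsum : a + 2 * (n • a) = 0 := by
    have h1 : ((p : ℕ) : F) = 0 := CharP.cast_eq_zero F p
    rw [hn] at h1
    push_cast at h1
    rw [nsmul_eq_mul]
    linear_combination a * h1
  have htx : ∀ x, (((y : GL (Fin 2 ⊕ Fin 2) F) * τ : GL (Fin 2 ⊕ Fin 2) F) : Matrix (Fin 2 ⊕ Fin 2) (Fin 2 ⊕ Fin 2) F) *ᵥ x =
      ((y : GL (Fin 2 ⊕ Fin 2) F) : Matrix (Fin 2 ⊕ Fin 2) (Fin 2 ⊕ Fin 2) F) *ᵥ x + ((n • a) * sympForm 2 F fr.u x) • fr.u := by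
    intro x
    rw [Units.val_mul, ← mulVec_mulVec, hτx, mulVec_add, mulVec_smul, hyu]
  set t : GL (Fin 2 ⊕ Fin 2) F := (y : GL (Fin 2 ⊕ Fin 2) F) * τ with ht
  have htN : NN t := by
    refine ⟨Y.mul_mem y.2 hτ, ?_, fun z => ?_⟩
    · rw [htx, hyu, sympForm_self, mul_zero, zero_smul, add_zero]
    · rw [htx, fr.uι, mul_zero, zero_smul, add_zero, hyι]
  have hux : ∀ g, NN g → ∀ x, sympForm 2 F fr.u ((g : Matrix (Fin 2 ⊕ Fin 2) (Fin 2 ⊕ Fin 2) F) *ᵥ x) = sympForm 2 F fr.u x := by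
    rintro g ⟨a1, a2, -⟩ x
    have := hsp g a1 fr.u x
    rwa [a2] at this
  have htt : ∀ x, (t : Matrix (Fin 2 ⊕ Fin 2) (Fin 2 ⊕ Fin 2) F) *ᵥ ((t : Matrix (Fin 2 ⊕ Fin 2) (Fin 2 ⊕ Fin 2) F) *ᵥ x) = x := by
    intro x
    rw [htx ((t : Matrix (Fin 2 ⊕ Fin 2) (Fin 2 ⊕ Fin 2) F) *ᵥ x), hux t htN, htx x, mulVec_add, mulVec_smul, hyu, hyy]
    have : x + (a * sympForm 2 F fr.u x) • fr.u + (n • a * sympForm 2 F fr.u x) • fr.u + (n • a * sympForm 2 F fr.u x) • fr.u =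
        x + ((a + 2 * (n • a)) * sympForm 2 F fr.u x) • fr.u := by module
    rw [this, hsum, zero_mul, zero_smul, add_zero]
  -- `t` is central
  have hcen : ∀ g ∈ Y, ∀ x, (g : Matrix (Fin 2 ⊕ Fin 2) (Fin 2 ⊕ Fin 2) F) *ᵥ ((t : Matrix (Fin 2 ⊕ Fin 2) (Fin 2 ⊕ Fin 2) F) *ᵥ x) =
      (t : Matrix (Fin 2 ⊕ Fin 2) (Fin 2 ⊕ Fin 2) F) *ᵥ ((g : Matrix (Fin 2 ⊕ Fin 2) (Fin 2 ⊕ Fin 2) F) *ᵥ x) := by
    intro g hg
    set t' : GL (Fin 2 ⊕ Fin 2) F := g * t * g⁻¹ with ht'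
    have ht'x : ∀ x, (t' : Matrix (Fin 2 ⊕ Fin 2) (Fin 2 ⊕ Fin 2) F) *ᵥ x = (g : Matrix (Fin 2 ⊕ Fin 2) (Fin 2 ⊕ Fin 2) F) *ᵥ
        ((t : Matrix (Fin 2 ⊕ Fin 2) (Fin 2 ⊕ Fin 2) F) *ᵥ (((g⁻¹ : GL (Fin 2 ⊕ Fin 2) F) : Matrix (Fin 2 ⊕ Fin 2) (Fin 2 ⊕ Fin 2) F) *ᵥ x)) := by
      intro x
      rw [ht', Units.val_mul, Units.val_mul, mulVec_mulVec, mulVec_mulVec, mul_assoc]
    have ht't' : ∀ x, (t' : Matrix (Fin 2 ⊕ Fin 2) (Fin 2 ⊕ Fin 2) F) *ᵥ ((t' : Matrix (Fin 2 ⊕ Fin 2) (Fin 2 ⊕ Fin 2) F) *ᵥ x) = x := by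
      intro x
      rw [ht'x, ht'x, inv_mulVec', htt, inv_mulVec]
    have ht'N : NN t' := by
      refine ⟨Y.mul_mem (Y.mul_mem hg htN.1) (Y.inv_mem hg), ?_, fun z => ?_⟩
      · obtain ⟨c, hc⟩ := h.2 _ (Y.inv_mem hg)
        rw [ht'x, hc, mulVec_smul, htN.2.1, ← hc, inv_mulVec]
      · have k1 : fr.rho h.ok ⟨t', Y.mul_mem (Y.mul_mem hg htN.1) (Y.inv_mem hg)⟩ =
            fr.rho h.ok ⟨g, hg⟩ * fr.rho h.ok ⟨t, htN.1⟩ * (fr.rho h.ok ⟨g, hg⟩)⁻¹ := by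
          rw [← map_mul, ← map_inv, ← map_mul]
          rfl
        have k2 : fr.rho h.ok ⟨t, htN.1⟩ = -1 := by
          apply Units.ext
          apply eq_of_mulVec
          intro z
          rw [Fr.rho_mulVec, Units.val_neg, Units.val_one, neg_mulVec, one_mulVec]
          exact htN.2.2 z
        have k3 := Fr.rho_mulVec h.ok ⟨t', Y.mul_mem (Y.mul_mem hg htN.1) (Y.inv_mem hg)⟩ z
        have k4 : fr.rho h.ok ⟨g, hg⟩ * (-1 : GL (Fin 1 ⊕ Fin 1) F) * (fr.rho h.ok ⟨g, hg⟩)⁻¹ = -1 := by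
          rw [mul_neg, mul_one, neg_mul, mul_inv_cancel]
        rw [k1, k2, k4, Units.val_neg, Units.val_one, neg_mulVec, one_mulVec] at k3
        exact k3.symm
    obtain ⟨a', ha', hm'⟩ := hmul _ _ ht'N htN
    -- `t' x = t x + a' f(u,x) u`
    have k5 : ∀ x, (t' : Matrix (Fin 2 ⊕ Fin 2) (Fin 2 ⊕ Fin 2) F) *ᵥ x =
        (t : Matrix (Fin 2 ⊕ Fin 2) (Fin 2 ⊕ Fin 2) F) *ᵥ x + (a' * sympForm 2 F fr.u x) • fr.u := by
      intro x
      have := hm' ((t : Matrix (Fin 2 ⊕ Fin 2) (Fin 2 ⊕ Fin 2) F) *ᵥ x)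
      rwa [htt, hux t htN] at this
    have k6 : a' = 0 := by
      have k7 := ht't' fr.v
      rw [k5 ((t' : Matrix (Fin 2 ⊕ Fin 2) (Fin 2 ⊕ Fin 2) F) *ᵥ fr.v), hux t' ht'N, k5 fr.v, mulVec_add, mulVec_smul, htt,
        htN.2.1, fr.uv] at k7
      have k8 : fr.v + ((2 * a') • fr.u) = fr.v := by
        conv_rhs => rw [← k7]
        module
      rw [add_eq_left, smul_eq_zero] at k8
      rcases k8 with k9 | k9
      · exact (mul_eq_zero.1 k9).resolve_left h2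
      · exact absurd k9 fr.u_ne
    intro x
    have k10 := k5 ((g : Matrix (Fin 2 ⊕ Fin 2) (Fin 2 ⊕ Fin 2) F) *ᵥ x)
    rw [k6, zero_mul, zero_smul, add_zero, ht'x, inv_mulVec'] at k10
    exact k10
  -- the fixed plane of `t`
  have hfix : ∀ x, (t : Matrix (Fin 2 ⊕ Fin 2) (Fin 2 ⊕ Fin 2) F) *ᵥ x = x → sympForm 2 F fr.u x = 0 →
      x = sympForm 2 F x fr.v • fr.u := by
    intro x hx h0
    have k1 := fr.dec x
    rw [h0, zero_smul, add_zero] at k1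
    have k2 := congrArg fr.π hx
    rw [k1, mulVec_add, mulVec_smul, htN.2.1, map_add, map_smul, fr.πu, smul_zero, zero_add, htN.2.2, map_add, map_smul,
      fr.πu, smul_zero, zero_add, fr.πι] at k2
    have k3 : fr.π x = 0 := by
      have : (2 : F) • fr.π x = 0 := by
        rw [two_smul]
        nth_rewrite 1 [← k2]
        rw [neg_add_cancel]
      exact (smul_eq_zero.1 this).resolve_left h2
    rw [k3, map_zero, add_zero] at k1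
    exact k1
  set v' : Fin 2 ⊕ Fin 2 → F := (2 : F)⁻¹ • (fr.v + (t : Matrix (Fin 2 ⊕ Fin 2) (Fin 2 ⊕ Fin 2) F) *ᵥ fr.v) with hv'
  have hv't : (t : Matrix (Fin 2 ⊕ Fin 2) (Fin 2 ⊕ Fin 2) F) *ᵥ v' = v' := by
    rw [hv', mulVec_smul, mulVec_add, htt, add_comm]
  have huv' : sympForm 2 F fr.u v' = 1 := by
    rw [hv', sympForm_smul_right, sympForm_add_right, hux t htN, fr.uv]
    field_simp
    norm_num
  clear_value v'
  obtain ⟨fr', hu', hv''⟩ := exists_fr (k := 1) (m := 2) rfl huv'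
  have hπv : fr'.π v' = 0 := by rw [← hv'']; exact fr'.πv
  have hπu : fr'.π fr.u = 0 := by rw [← hu']; exact fr'.πu
  have hπ : ∀ x, (t : Matrix (Fin 2 ⊕ Fin 2) (Fin 2 ⊕ Fin 2) F) *ᵥ x = x → fr'.π x = 0 := by
    intro x hx
    have k1 := hfix (x - sympForm 2 F fr.u x • v') (by rw [mulVec_sub, mulVec_smul, hx, hv't]) (by
      rw [sympForm_sub_right, sympForm_smul_right, huv', mul_one, sub_self])
    have k2 := congrArg fr'.π k1
    rw [map_sub, map_smul, map_smul, hπv, hπu, smul_zero, smul_zero, sub_zero] at k2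
    exact k2
  refine ⟨fr', hu', h.1, fun g hg => ⟨hπ _ ?_, hπ _ ?_⟩⟩
  · rw [← hcen g hg, hu', htN.2.1]
  · rw [← hcen g hg, hv'', hv't]

end caseB

section main

variable {F : Type} [Field F] [Fintype F] {p f : ℕ} [hp : Fact p.Prime] [CharP F p]

theorem cop_pp (hF : Fintype.card F = p ^ f) (hf : 1 ≤ f) (b j : ℕ) (hj : 1 ≤ j) :
    Nat.Coprime (p ^ b) (Fintype.card F ^ j - 1) := by
  apply Nat.Coprime.pow_left
  rw [Nat.Prime.coprime_iff_not_dvd hp.out]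
  intro h
  have h1 : p ∣ Fintype.card F ^ j := by
    rw [hF, ← pow_mul]
    exact dvd_pow_self p (by have := Nat.mul_pos hf hj; omega)
  have h4 := Nat.dvd_sub h1 h
  have h6 : 1 ≤ Fintype.card F ^ j := Nat.one_le_pow _ _ Fintype.card_pos
  have h5 : Fintype.card F ^ j - (Fintype.card F ^ j - 1) = 1 := by omega
  rw [h5] at h4
  exact hp.out.one_lt.ne' (Nat.dvd_one.1 h4)

/-- a subgroup of `Sp_2` which fixes a line -/
theorem sp1_line {R : Subgroup (GL (Fin 1 ⊕ Fin 1) F)} (hR : R ≤ spGL 1 F) {v : Fin 1 ⊕ Fin 1 → F} (hv : v ≠ 0)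
    (h : ∀ g ∈ R, ∃ c : F, (g : Matrix (Fin 1 ⊕ Fin 1) (Fin 1 ⊕ Fin 1) F) *ᵥ v = c • v) :
    Nat.card R ∣ (Fintype.card F - 1) * Fintype.card F := by
  obtain ⟨fr, hfr⟩ := exists_fr' (k := 0) (m := 1) rfl hv
  have hP : fr.Par R := ⟨hR, by rw [hfr]; exact h⟩
  obtain ⟨c, hc, h1⟩ := Fr.card_par hP
  obtain ⟨c', hc', h2⟩ := Fr.card_Q hP
  have h3 := Fr.card_T_dvd hP
  have h4 : Nat.card (fr.rho hP.ok).range = 1 := by
    have : Subsingleton (GL (Fin 0 ⊕ Fin 0) F) := ⟨fun a b => Units.ext (by ext i; exact isEmptyElim i)⟩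
    exact Nat.card_eq_one_iff_unique.2 ⟨inferInstance, ⟨1⟩⟩
  rw [h1, h4, one_mul, h2]
  rw [mul_zero, pow_zero] at hc'
  rw [Nat.dvd_one.1 hc', one_mul]
  exact Nat.mul_dvd_mul hc h3

theorem Q_eq_T {Y : Subgroup (GL (Fin 2 ⊕ Fin 2) F)} (hp2 : p ≠ 2) (hno : ∀ g ∈ Y, ¬ Two g) {fr : Fr 1 2 F}
    (h : fr.Par Y) : Fr.Q h = Fr.T h := by
  have h2 : (2 : F) ≠ 0 := by
    intro h0
    have h1 : ((2 : ℕ) : F) = 0 := by exact_mod_cast h0
    rw [CharP.cast_eq_zero_iff F p] at h1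
    exact hp2 ((Nat.prime_dvd_prime_iff_eq hp.out Nat.prime_two).1 h1)
  refine le_antisymm (fun g hg => ?_) (fun g hg => ((Fr.mem_T h).1 hg).1)
  by_contra hgT
  exact hno g (Fr.Q_le h hg) (two_of_Q h2 h hg hgT)

/-- **subgroups of `Sp_4(q)` without elements of rank two, with large `p`-part** -/
theorem two_main (hF : Fintype.card F = p ^ f) (hf : 1 ≤ f) (h4 : 4 ≤ Fintype.card F) (hp2 : p ≠ 2)
    {Y : Subgroup (GL (Fin 2 ⊕ Fin 2) F)} (hY : Y ≤ spGL 2 F) (hno : ∀ g ∈ Y, ¬ Two g) {b : ℕ}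
    (hb : Fintype.card F < p ^ b * p ^ b) (h8 : 8 < p ^ b) (hd : p ^ (f + b) ∣ Nat.card Y) :
    Nat.card Y ∣ ((Fintype.card F - 1) * Fintype.card F) * ((Fintype.card F - 1) * Fintype.card F) := by
  classical
  have hfin : Finite (GL (Fin 2 ⊕ Fin 2) F) := inferInstance
  have hfin1 : Finite (GL (Fin 1 ⊕ Fin 1) F) := inferInstance
  have hq1 : 1 < Fintype.card F := Fintype.one_lt_card
  have hb1 : 1 ≤ b := by
    rcases Nat.eq_zero_or_pos b with rfl | h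
    · rw [pow_zero] at h8; omega
    · exact h
  -- the final contradiction
  have hfinal : ∀ (fr : Fr 1 2 F) (h : fr.Sta Y) (a : F), a ∈ TA Y fr.u → a ≠ 0 → False := by
    intro fr h a ha ha0
    have h1 := sta_no (p := p) h hno ha ha0
    have h2 := hd.trans (Fr.card_sta₁ h)
    have h3 : Nat.Coprime (p ^ (f + b)) (Nat.card (Fr.r₁ h).ker) := Nat.Coprime.pow_left _ ((Nat.Prime.coprime_iff_not_dvd hp.out).2 h1)
    have h4 := h3.dvd_of_dvd_mul_right h2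
    rw [card_sp1] at h4
    have h5 := (cop_pp hF hf (f + b) 2 (by norm_num)).dvd_of_dvd_mul_right h4
    rw [hF] at h5
    have h6 := (Nat.pow_dvd_pow_iff_le_right hp.out.one_lt).1 h5
    omega
  -- the group of a Sylow subgroup
  have hpar : ∀ (G : Subgroup (GL (Fin 2 ⊕ Fin 2) F)) (fr : Fr 1 2 F) (h : fr.Par G), (∀ g ∈ G, ¬ Two g) →
      p ^ (f + b) ∣ Nat.card G →
      p ^ b ∣ Nat.card (TA G fr.u) ∧ p ^ b ∣ Nat.card (fr.rho h.ok).range := by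
    intro G fr h hno hd
    obtain ⟨c, hc, h1⟩ := Fr.card_par h
    rw [Q_eq_T hp2 hno h] at h1
    have hr : Nat.card (fr.rho h.ok).range ∣ Fintype.card F * (Fintype.card F ^ 2 - 1) := by
      rw [← card_sp1]
      apply Subgroup.card_dvd_of_le
      rintro _ ⟨x, rfl⟩
      exact Fr.rho_mem h.ok x
    have hcc : Nat.Coprime (p ^ (f + b)) c := by
      refine Nat.Coprime.coprime_dvd_right hc ?_
      have := cop_pp hF hf (f + b) 1 le_rfl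
      rwa [pow_one] at this
    rw [h1, mul_left_comm] at hd
    have hd1 := hcc.dvd_of_dvd_mul_left hd
    constructor
    · rw [← Fr.card_T h]
      have h3 : p ^ (f + b) ∣ (Fintype.card F ^ 2 - 1) * (Fintype.card F * Nat.card (Fr.T h)) := by
        refine hd1.trans ?_
        refine (Nat.mul_dvd_mul_right hr _).trans ?_
        exact dvd_of_eq (by ring)
      have h5 := (cop_pp hF hf (f + b) 2 (by norm_num)).dvd_of_dvd_mul_left h3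
      rw [hF, pow_add] at h5
      exact Nat.dvd_of_mul_dvd_mul_left (pow_pos hp.out.pos _) h5
    · have h3 : p ^ (f + b) ∣ Nat.card (fr.rho h.ok).range * p ^ f := by
        refine hd1.trans ?_
        rw [← hF]
        exact Nat.mul_dvd_mul_left _ (Fr.card_T_dvd h)
      rw [pow_add, mul_comm] at h3
      exact Nat.dvd_of_mul_dvd_mul_right (pow_pos hp.out.pos _) h3
  -- a centre
  obtain ⟨P, hP⟩ : ∃ P : Subgroup (GL (Fin 2 ⊕ Fin 2) F), P ≤ Y ∧ IsPGroup p P ∧ p ^ (f + b) ∣ Nat.card P := by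
    obtain ⟨P⟩ : Nonempty (Sylow p Y) := inferInstance
    refine ⟨(P : Subgroup Y).map Y.subtype, ?_, P.2.map _, ?_⟩
    · rintro _ ⟨x, -, rfl⟩
      exact x.2
    · rw [Subgroup.card_map_of_injective Y.subtype_injective]
      exact P.pow_dvd_card_of_pow_dvd_card hd
  obtain ⟨hPY, hPp, hPd⟩ := hP
  obtain ⟨u, hu0, hu⟩ := exists_fixed hPp
  obtain ⟨fr, hfr⟩ := exists_fr' (k := 1) (m := 2) rfl hu0
  have hPpar : fr.Par P := ⟨hPY.trans hY, fun g hg => ⟨1, by rw [hfr, hu g hg, one_smul]⟩⟩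
  have hbP := (hpar P fr hPpar (fun g hg => hno g (hPY hg)) hPd).1
  have hbY : p ^ b ∣ Nat.card (TA Y fr.u) := hbP.trans (AddSubgroup.card_dvd_of_le (TA_mono hPY _))
  obtain ⟨a₁, ha₁, ha₁0⟩ : ∃ a₁ ∈ TA Y fr.u, a₁ ≠ 0 := by
    have h1 : 1 < Nat.card (TA Y fr.u) := by
      have := Nat.le_of_dvd Nat.card_pos hbY
      omega
    have h2 : Nontrivial (TA Y fr.u) := Finite.one_lt_card_iff_nontrivial.1 h1
    obtain ⟨x, hx⟩ := exists_ne (0 : TA Y fr.u)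
    exact ⟨x, x.2, fun h0 => hx (Subtype.ext h0)⟩
  by_cases hY1 : ∀ g ∈ Y, ∃ c : F, (g : Matrix (Fin 2 ⊕ Fin 2) (Fin 2 ⊕ Fin 2) F) *ᵥ fr.u = c • fr.u
  · have h : fr.Par Y := ⟨hY, hY1⟩
    have hbr := (hpar Y fr h hno hd).2
    have hRS : (fr.rho h.ok).range ≤ spGL 1 F := by
      rintro _ ⟨x, rfl⟩
      exact Fr.rho_mem h.ok x
    rcases sp1_part hF hf h4 hb h8 hRS hbr with h1 | ⟨z, hz0, hz⟩
    · exfalso
      obtain ⟨fr', hu', hS⟩ := caseB h4 hp2 hno h h1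
      exact hfinal fr' hS a₁ (by rw [hu']; exact ha₁) ha₁0
    · have h1 := sp1_line hRS hz0 hz
      obtain ⟨c, hc, h2⟩ := Fr.card_par h
      rw [Q_eq_T hp2 hno h] at h2
      rw [h2]
      exact Nat.mul_dvd_mul h1 (Nat.mul_dvd_mul hc (Fr.card_T_dvd h))
  · exfalso
    push Not at hY1
    obtain ⟨g, hg, hgu⟩ := hY1
    have ha₂ := TA_conj hY hg ha₁
    have hs : sympForm 2 F fr.u ((g : Matrix (Fin 2 ⊕ Fin 2) (Fin 2 ⊕ Fin 2) F) *ᵥ fr.u) ≠ 0 := by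
      intro h0
      obtain ⟨k, hk, hk2⟩ := two_of_TA fr.u_ne hgu h0 ha₁ ha₁0 ha₂ ha₁0
      exact hno k hk hk2
    set s := sympForm 2 F fr.u ((g : Matrix (Fin 2 ⊕ Fin 2) (Fin 2 ⊕ Fin 2) F) *ᵥ fr.u) with hsd
    obtain ⟨fr', hu', hv'⟩ := exists_fr (k := 1) (m := 2) rfl (u := fr.u)
      (v := s⁻¹ • ((g : Matrix (Fin 2 ⊕ Fin 2) (Fin 2 ⊕ Fin 2) F) *ᵥ fr.u)) (by
        rw [sympForm_smul_right, ← hsd, inv_mul_cancel₀ hs])
    have ha₃ := TA_smul (inv_ne_zero hs) ha₂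
    have hS := caseA hF hf h4 hb h8 hY hno (fr := fr') (by rw [hu']; exact hbY) (by rw [hv']; exact ha₃)
      (mul_ne_zero ha₁0 (mul_ne_zero (inv_ne_zero (inv_ne_zero hs)) (inv_ne_zero (inv_ne_zero hs))))
    exact hfinal fr' hS a₁ (by rw [hu']; exact ha₁) ha₁0

end main

end Cfsg.Agent.H402.Rg
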