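import Cfsg.Agent.H402.Rg.Lst2
import Cfsg.Agent.H402.Rg.TwoH

/-!
# S3691: `PSp_4(q)`, `q` odd: no exact factorization
-/

set_option autoImplicit false
set_option linter.unusedSectionVars false

namespace Cfsg.Agent.H402.Rg

open Matrix Cfsg Cfsg.Geo Module
open scoped MatrixGroups Matrix
open Cfsg.Agent.H884.El (PP)
open Cfsg.Agent.H248.Cov (od_of_pp exists_r4 exists_r6 exists_r8)
open Cfsg.Agent.H909.Sp4List (Res88)

/-! ### numbers -/

theorem eight_lt {p f N : ℕ} (hp : 3 ≤ p) (hN : 24 < p ^ f) (_h : N = 0) : 8 * f < p ^ f := by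
  rcases Nat.lt_or_ge f 4 with h | h
  · omega
  · have key : ∀ n, 4 ≤ n → 8 * n < 3 ^ n := by
      intro n hn
      induction n, hn using Nat.le_induction with
      | base => norm_num
      | succ n hn ih => rw [pow_succ]; omega
    exact (key f h).trans_le (Nat.pow_le_pow_left hp f)

theorem sq_lt {p f : ℕ} (hp : 3 ≤ p) : f * f < p ^ f := by
  have key : ∀ n, n * n < 3 ^ n := by
    intro n
    induction n with
    | zero => norm_num
    | succ n ih =>
      rcases Nat.lt_or_ge n 2 with h | h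
      · interval_cases n <;> norm_num
      · rw [pow_succ]
        nlinarith
  exact (key f).trans_le (Nat.pow_le_pow_left hp f)

/-- the power of `p` missing in `|Y|` -/
theorem exists_b {p f n e k : ℕ} (hp : p.Prime) (h3 : 3 ≤ p) (hf : 1 ≤ f) (he : e ∣ 2 * f) (h24 : 24 < p ^ f)
    (hd : p ^ (k + f) ∣ e * n) :
    ∃ b, p ^ f < p ^ b * p ^ b ∧ 8 < p ^ b ∧ p ^ (k + b) ∣ n := by
  have he0 : e ≠ 0 := by
    rintro rfl
    have := Nat.eq_zero_of_zero_dvd he
    omega
  obtain ⟨v, e', he', hev⟩ := Nat.exists_eq_pow_mul_and_not_dvd he0 p hp.ne_one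
  have hvf : p ^ v ∣ f := by
    have h1 : p ^ v ∣ 2 * f := (Dvd.intro _ hev.symm).trans he
    have h2 : Nat.Coprime (p ^ v) 2 := by
      apply Nat.Coprime.pow_left
      rw [Nat.coprime_primes hp Nat.prime_two]
      omega
    exact h2.dvd_of_dvd_mul_left h1
  have hvle : p ^ v ≤ f := Nat.le_of_dvd (by omega) hvf
  have hff := sq_lt (f := f) h3
  have hlt : f < p ^ f := by
    have : f * 1 ≤ f * f := Nat.mul_le_mul_left _ hf
    omega
  have hv : v ≤ f := by
    by_contra hcon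
    have : p ^ f ≤ p ^ v := Nat.pow_le_pow_right hp.pos (by omega)
    omega
  have hpv : p ^ (f - v) * p ^ v = p ^ f := by rw [← pow_add]; congr 1; omega
  have h8 := eight_lt (N := 0) h3 h24 rfl
  refine ⟨f - v, ?_, ?_, ?_⟩
  · by_contra hcon
    have h1 : (p ^ (f - v) * p ^ (f - v)) * (p ^ v * p ^ v) ≤ p ^ f * (f * f) :=
      Nat.mul_le_mul (by omega) (Nat.mul_le_mul hvle hvle)
    have h2 : (p ^ (f - v) * p ^ (f - v)) * (p ^ v * p ^ v) = p ^ f * p ^ f := by
      rw [← hpv]; ring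
    rw [h2] at h1
    have h3 := Nat.le_of_mul_le_mul_left h1 (by positivity)
    omega
  · by_contra hcon
    have h1 : p ^ (f - v) * p ^ v ≤ 8 * f := Nat.mul_le_mul (by omega) hvle
    omega
  · rw [hev] at hd
    have h1 : p ^ (k + f) = p ^ v * p ^ (k + (f - v)) := by rw [← pow_add]; congr 1; omega
    rw [h1, mul_assoc] at hd
    have h2 := Nat.dvd_of_mul_dvd_mul_left (pow_pos hp.pos v) hd
    have h3 : Nat.Coprime (p ^ (k + (f - v))) e' := Nat.Coprime.pow_left _ ((Nat.Prime.coprime_iff_not_dvd hp).2 he')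
    exact h3.dvd_of_dvd_mul_left h2

section main

variable {F : Type} [Field F] [Fintype F] {p f : ℕ}

theorem geom_two {q : ℕ} (hq : 1 < q) : (q ^ (2 * 2) - 1) / (q - 1) = (q + 1) * (q ^ 2 + 1) := by
  apply Nat.div_eq_of_eq_mul_left (by omega)
  obtain ⟨x, rfl⟩ : ∃ x, q = x + 1 := ⟨q - 1, by omega⟩
  have h1 : 1 ≤ (x + 1) ^ (2 * 2) := Nat.one_le_pow _ _ (by omega)
  zify [h1]
  simp only [Nat.add_sub_cancel]
  push_cast
  ring

/-- `Two` elements are neither `1` nor `-1` -/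
theorem two_ne_pm {g : GL (Fin 2 ⊕ Fin 2) F} (h : Two g) : ¬ (g = 1 ∨ g = -1) := by
  rintro (h1 | h1)
  · obtain ⟨-, x, -, h2, -⟩ := h
    apply h2
    rw [h1, Units.val_one, one_mulVec, sub_self, Cfsg.Agent.ClassicalGeometry.SympBasic.sympForm_zero_left]
  · obtain ⟨-, x, -, h2, -⟩ := h
    apply h2
    rw [h1, Units.val_neg, Units.val_one, neg_mulVec, one_mulVec,
      Cfsg.Agent.ClassicalGeometry.SympBasic.sympForm_sub_left, Cfsg.Agent.ClassicalGeometry.SympBasic.sympForm_neg_left,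
      Cfsg.Agent.ClassicalGeometry.SympBasic.sympForm_self]
    ring

theorem odd_two_aux (hp : p.Prime) (hf : 1 ≤ f) (hF : Fintype.card F = p ^ f) (hodd : Odd (Fintype.card F))
    (hq : 1387 < Fintype.card F) (h88 : Res88 F) {X Y : Subgroup (GL (Fin 2 ⊕ Fin 2) F)} {e : ℕ} (h : Ctx 2 F f X Y e)
    {r : ℕ} (hr : PP p (f * 4) r) (hrX : r ∣ Nat.card X) : False := by
  have hfin : Finite (GL (Fin 2 ⊕ Fin 2) F) := inferInstance
  have hpf : Fact p.Prime := ⟨hp⟩
  have hchar : CharP F p := by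
    obtain ⟨p', hp'⟩ := CharP.exists F
    obtain ⟨n, hpp, hn⟩ := FiniteField.card F p'
    have h1 : p' ∣ p ^ f := by rw [← hF, hn]; exact dvd_pow_self _ n.ne_zero
    have h2 : p' = p := (Nat.prime_dvd_prime_iff_eq hpp hp).1 (hpp.dvd_of_dvd_pow h1)
    rwa [h2] at hp'
  have hp2 : p ≠ 2 := by
    rintro rfl
    rw [hF] at hodd
    exact absurd ((Nat.odd_pow_iff (by omega)).1 hodd) (by decide)
  have hp3 : 3 ≤ p := by
    have := hp.two_le
    omega
  have h8 := eight_lt (N := 0) hp3 (f := f) (by omega) rfl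
  have he2f := Nat.le_of_dvd (by omega) h.he
  have he1 : 1 ≤ e := by
    rcases Nat.eq_zero_or_pos e with h0 | h0
    · have := h.he
      rw [h0] at this
      have := Nat.eq_zero_of_zero_dvd this
      omega
    · exact h0
  set q := Fintype.card F with hqd
  rw [← hF] at h8
  have hYpos : 0 < Nat.card Y := Nat.card_pos
  have hXpos : 0 < Nat.card X := Nat.card_pos
  -- the lower bound of `|X|`
  have hlow : (q + 1) * (q ^ 2 + 1) ≤ Nat.card X * f := by
    have h1 := h.minY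
    rw [← hqd, geom_two (by omega)] at h1
    have h2 := h.card
    have h3 : (2 * ((q + 1) * (q ^ 2 + 1))) * Nat.card Y ≤ (Nat.card X * e) * Nat.card Y := by
      calc (2 * ((q + 1) * (q ^ 2 + 1))) * Nat.card Y = 2 * (Nat.card Y * ((q + 1) * (q ^ 2 + 1))) := by ring
        _ ≤ 2 * Nat.card (spGL 2 F) := Nat.mul_le_mul_left _ h1
        _ = (Nat.card X * e) * Nat.card Y := by rw [← h2]; ring
    have h4 := Nat.le_of_mul_le_mul_right h3 hYpos
    have h5 : Nat.card X * e ≤ Nat.card X * (2 * f) := Nat.mul_le_mul_left _ he2f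
    have h6 : 2 * ((q + 1) * (q ^ 2 + 1)) ≤ 2 * (Nat.card X * f) := by
      calc _ ≤ _ := h4.trans h5
        _ = _ := by ring
    omega
  have hfq : f ≤ q := by omega
  have hbig : ∀ N, N ≤ 10080 → ¬ Nat.card X ≤ N := by
    intro N hN hX
    have h1 : (q + 1) * (q ^ 2 + 1) ≤ 10080 * q := hlow.trans (Nat.mul_le_mul (hX.trans hN) hfq)
    have h2 : q * (q ^ 2 + 1) ≤ q * 10080 := by nlinarith
    have h3 := Nat.le_of_mul_le_mul_left h2 (by omega)
    have h4 : 1387 * 1387 ≤ q ^ 2 := by rw [_root_.sq]; exact Nat.mul_le_mul (by omega) (by omega)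
    omega
  rcases list2 hp hf hF hodd (by omega) h88 hr h.leX h.neX hrX with ⟨K, hK, hsa, halt, hXK⟩ | h1
  swap
  · exact hbig 10080 le_rfl h1
  have hr' : PP p (2 * (2 * f)) r := by
    rw [show 2 * (2 * f) = f * 4 by ring]; exact hr
  -- the structure of `X`
  obtain ⟨E, iE, iE', iA, c, hE2, hEc, hC⟩ : ∃ (E : Type) (_ : Field E) (_ : Fintype E) (_ : Algebra F E) (c : Cd 2 F E 1),
      finrank F E = 2 ∧ Fintype.card E = Fintype.card F ^ 2 ∧ ∀ A ∈ spGL 1 E, c.Psi A ∈ X := by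
    rcases dD hF hf (by omega) (by norm_num) hr' hK hsa halt h.leX hXK hrX with h1 | h1 | h1
    · exact h1
    · exfalso
      rw [← hqd] at h1
      have h2 : (q + 1) * (q ^ 2 + 1) ≤ (8 * f) * (q ^ 2 + 1) := by
        calc (q + 1) * (q ^ 2 + 1) ≤ Nat.card X * f := hlow
          _ ≤ (2 * (4 * (q ^ 2 + 1))) * f := Nat.mul_le_mul_right _ h1
          _ = _ := by ring
      have h3 := Nat.le_of_mul_le_mul_right h2 (by positivity)
      omega
    · exact (hbig 240 (by norm_num) h1).elim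
  -- no elements of rank two in `Y`
  have hno : ∀ g ∈ Y, ¬ Two g := by
    intro g hg h2
    obtain ⟨y, hy, A, hA, hyg⟩ := conj_two c hE2 (h.leY hg) h2
    have h3 := h.nc _ (hC A hA) y⁻¹ ((spGL 2 F).inv_mem hy) (by
      rw [← hyg]
      have e : y⁻¹ * (y * g * y⁻¹) * y⁻¹⁻¹ = g := by group
      rwa [e])
    rw [← hyg] at h3
    apply two_ne_pm h2
    rcases h3 with h4 | h4
    · left
      have e : g = y⁻¹ * (y * g * y⁻¹) * y := by group
      rw [e, h4, mul_one, inv_mul_cancel]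
    · right
      have e : g = y⁻¹ * (y * g * y⁻¹) * y := by group
      rw [e, h4, mul_neg, mul_one, neg_mul, inv_mul_cancel]
  -- the order of `X`
  have hXd : Nat.card X ∣ 2 * (q ^ 2 * (q ^ 4 - 1)) := by
    have h1 := norm_dvd (n := 1) (by norm_num) (by norm_num) (by norm_num) hK hsa halt h.leX hXK
    rw [Finset.prod_range_one] at h1
    have e1 : (Fintype.card F ^ 2) ^ 1 ^ 2 * ((Fintype.card F ^ 2) ^ (2 * (0 + 1)) - 1) = q ^ 2 * (q ^ 4 - 1) := by
      rw [← hqd]; congr 1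
      · ring
      · congr 1; ring
    rwa [e1] at h1
  have hYd : q ^ 2 * (q ^ 2 - 1) ∣ e * Nat.card Y := by
    have h1 := h.card
    rw [card_sp] at h1
    have e1 : Fintype.card F ^ 2 ^ 2 * ∏ i ∈ Finset.range 2, (Fintype.card F ^ (2 * (i + 1)) - 1) =
        q ^ 4 * ((q ^ 2 - 1) * (q ^ 4 - 1)) := by
      rw [Finset.prod_range_succ, Finset.prod_range_one]
      norm_num
      rw [← hqd]
    rw [e1] at h1
    have h2 : (2 * (q ^ 2 * (q ^ 4 - 1))) * (q ^ 2 * (q ^ 2 - 1)) ∣ (2 * (q ^ 2 * (q ^ 4 - 1))) * (e * Nat.card Y) := by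
      have h3 : (2 * (q ^ 2 * (q ^ 4 - 1))) * (q ^ 2 * (q ^ 2 - 1)) = Nat.card X * (e * Nat.card Y) := by
        rw [show Nat.card X * (e * Nat.card Y) = Nat.card X * Nat.card Y * e by ring, h1]
        ring
      rw [h3]
      exact Nat.mul_dvd_mul_right hXd _
    refine Nat.dvd_of_mul_dvd_mul_left ?_ h2
    have : 1 < q ^ 4 := Nat.one_lt_pow (by norm_num) (by omega)
    have : 0 < q ^ 4 - 1 := by omega
    positivity
  -- the `p`-part of `Y`
  have hpd : p ^ (f + f) ∣ e * Nat.card Y := by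
    have h1 : p ^ (f + f) = q ^ 2 := by rw [pow_add, ← hF]; ring
    rw [h1]
    exact (Dvd.intro _ rfl).trans hYd
  obtain ⟨b, hb1, hb2, hb3⟩ := exists_b hp hp3 hf h.he (by rw [← hF]; omega) hpd
  have hmain := two_main hF hf (by omega) hp2 h.leY hno (b := b) (by rw [← hqd, hF]; exact hb1) hb2 hb3
  rw [← hqd] at hmain
  have h1 : q ^ 2 * (q ^ 2 - 1) ∣ e * (((q - 1) * q) * ((q - 1) * q)) := hYd.trans (Nat.mul_dvd_mul_left _ hmain)
  obtain ⟨x, hx⟩ : ∃ x, q = x + 1 := ⟨q - 1, by omega⟩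
  have h2 : q ^ 2 - 1 = (q - 1) * (q + 1) := by
    rw [hx]
    have : 1 ≤ (x + 1) ^ 2 := Nat.one_le_pow _ _ (by omega)
    zify [this]
    simp only [Nat.add_sub_cancel]
    push_cast
    ring
  have h3 : (q ^ 2 * (q - 1)) * (q + 1) ∣ (q ^ 2 * (q - 1)) * (e * (q - 1)) := by
    have e1 : (q ^ 2 * (q - 1)) * (q + 1) = q ^ 2 * (q ^ 2 - 1) := by rw [h2]; ring
    have e2 : (q ^ 2 * (q - 1)) * (e * (q - 1)) = e * (((q - 1) * q) * ((q - 1) * q)) := by ring
    rw [e1, e2]
    exact h1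
  have h4 : q + 1 ∣ e * (q - 1) := by
    refine Nat.dvd_of_mul_dvd_mul_left ?_ h3
    have : 0 < q - 1 := by omega
    positivity
  have h5 : q + 1 ∣ 2 * e := by
    have h6 : q + 1 ∣ e * (q + 1) := Dvd.intro_left _ rfl
    have h7 := Nat.dvd_sub h6 h4
    have h8 : e * (q + 1) - e * (q - 1) = 2 * e := by
      rw [← Nat.mul_sub]
      have : q + 1 - (q - 1) = 2 := by omega
      rw [this, mul_comm]
    rwa [h8] at h7
  have h6 := Nat.le_of_dvd (by omega) h5
  omega

theorem odd_two (hp : p.Prime) (hf : 1 ≤ f) (hF : Fintype.card F = p ^ f) (hodd : Odd (Fintype.card F))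
    (hq : 1387 < Fintype.card F) (h88 : Res88 F) {X Y : Subgroup (GL (Fin 2 ⊕ Fin 2) F)} {e : ℕ} (h : Ctx 2 F f X Y e) :
    False := by
  obtain ⟨r, hr⟩ := exists_r4 hp hf
  have hod := od_of_pp hF hf (by norm_num) hr
  have hrd : r ∣ Nat.card X * Nat.card Y * e := by
    rw [h.card, card_sp, Finset.prod_range_succ, Finset.prod_range_one]
    have h1 : r ∣ Fintype.card F ^ (2 * (1 + 1)) - 1 := (hod.dvd_iff Fintype.card_pos 4).2 dvd_rfl
    exact (h1.mul_left _).mul_left _ |>.mul_left _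
  have hlt := hr.lt (by omega)
  rcases hr.prime.dvd_mul.1 hrd with h1 | h1
  · rcases hr.prime.dvd_mul.1 h1 with h2 | h2
    · exact odd_two_aux hp hf hF hodd hq h88 h hr h2
    · exact odd_two_aux hp hf hF hodd hq h88 h.symm hr h2
  · have := Nat.le_of_dvd (by omega) (h1.trans h.he)
    omega

end main

end Cfsg.Agent.H402.Rg
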