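import Cfsg.Agent.H402.Rg.ParC
import Cfsg.Agent.H402.Rg.Rk2
import Cfsg.Agent.H16.PSp4.Bridge

/-!
# Subgroups of the stabiliser of a point which cover `Sp_2k(q)`
-/

set_option autoImplicit false
set_option linter.unusedSectionVars false

namespace Cfsg.Agent.H402.Rg

open Module Matrix Cfsg Cfsg.Geo
open scoped MatrixGroups Matrix commutatorElement
open Cfsg.Agent.ClassicalGeometry.SympBasic

variable {k m : ℕ} {F : Type*} [Field F]

/-- transitivity on non-zero vectors -/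
theorem sp_trans {w₀ w : Fin k ⊕ Fin k → F} (h0 : w₀ ≠ 0) (hw : w ≠ 0) :
    ∃ A ∈ spGL k F, (A : Matrix (Fin k ⊕ Fin k) (Fin k ⊕ Fin k) F) *ᵥ w₀ = w := by
  have hk : 1 ≤ k := by
    by_contra h
    apply h0
    ext i
    rcases i with i | i
    · exact absurd i.2 (by omega)
    · exact absurd i.2 (by omega)
  obtain ⟨l, rfl⟩ : ∃ l, k = l + 1 := ⟨k - 1, by omega⟩
  obtain ⟨fr₀, e0⟩ := exists_fr' (k := l) rfl h0
  obtain ⟨fr₁, e1⟩ := exists_fr' (k := l) rfl hw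
  let L : (Fin (l + 1) ⊕ Fin (l + 1) → F) →ₗ[F] (Fin (l + 1) ⊕ Fin (l + 1) → F) :=
    { toFun := fun x => sympForm (l + 1) F x fr₀.v • fr₁.u + sympForm (l + 1) F fr₀.u x • fr₁.v + fr₁.ι (fr₀.π x)
      map_add' := fun x y => by
        rw [sympForm_add_left, sympForm_add_right, map_add, map_add]
        module
      map_smul' := fun c x => by
        rw [sympForm_smul_left, sympForm_smul_right, map_smul, map_smul, RingHom.id_apply]
        module }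
  have hLx : ∀ x, L x = sympForm (l + 1) F x fr₀.v • fr₁.u + sympForm (l + 1) F fr₀.u x • fr₁.v + fr₁.ι (fr₀.π x) := fun _ => rfl
  have hcomb : ∀ (fr : Fr l (l + 1) F) (a b a' b' : F) (z z' : Fin l ⊕ Fin l → F),
      sympForm (l + 1) F (a • fr.u + b • fr.v + fr.ι z) (a' • fr.u + b' • fr.v + fr.ι z') =
      a * b' - b * a' + sympForm l F z z' := by
    intro fr a b a' b' z z'
    simp only [sympForm_add_left, sympForm_add_right, sympForm_smul_left, sympForm_smul_right, sympForm_self, fr.uv, fr.vu,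
      fr.uι, fr.vι, fr.ιu, fr.ιv, fr.form]
    ring
  obtain ⟨A, hA, hAx⟩ := exists_spGL L (fun x y => by
    rw [hLx, hLx, hcomb]
    conv_rhs => rw [fr₀.dec x, fr₀.dec y]
    rw [hcomb])
  refine ⟨A, hA, ?_⟩
  rw [hAx, hLx, ← e0, fr₀.uv, sympForm_self, fr₀.πu, map_zero, one_smul, zero_smul, add_zero, add_zero, e1]

namespace Fr

variable {fr : Fr k m F} {Y : Subgroup (GL (Fin m ⊕ Fin m) F)}

/-- the formula for the elements of the radical -/
theorem Q_eq (h : fr.Par Y) {g : GL (Fin m ⊕ Fin m) F} (hg : g ∈ Q h) (x) :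
    (g : Matrix _ _ F) *ᵥ x = x + sympForm m F fr.u x • (sympForm m F ((g : Matrix _ _ F) *ᵥ fr.v) fr.v • fr.u +
      fr.ι (fr.π ((g : Matrix _ _ F) *ᵥ fr.v))) + sympForm k F (fr.π ((g : Matrix _ _ F) *ᵥ fr.v)) (fr.π x) • fr.u := by
  obtain ⟨hg1, hg2, hg3⟩ := (mem_Q h).1 hg
  have e1 := Q_v h hg
  have e2 := fun y => Q_ι h hg y
  set w := fr.π ((g : Matrix _ _ F) *ᵥ fr.v) with hw
  set a := sympForm m F ((g : Matrix _ _ F) *ᵥ fr.v) fr.v with ha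
  conv_lhs => rw [fr.dec x, mulVec_add, mulVec_add, mulVec_smul, mulVec_smul, hg2, e1, e2]
  conv_rhs => arg 1; arg 1; rw [fr.dec x]
  module

section full

variable [Fintype F]

/-- the elements which fix `u` also cover `Sp_2k` -/
theorem cover (h : fr.Par Y) (hperf : commutator (spGL k F) = ⊤) (hfull : spGL k F ≤ (fr.rho h.ok).range) :
    spGL k F ≤ ((Fr.cc h).ker).map (fr.rho h.ok) := by
  have h1 : (((Fr.cc h).ker).map (fr.rho h.ok)).subgroupOf (spGL k F) = ⊤ := by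
    rw [eq_top_iff, ← hperf, commutator_def, Subgroup.commutator_le]
    rintro ⟨a, ha⟩ - ⟨b, hb⟩ -
    obtain ⟨g, rfl⟩ := hfull ha
    obtain ⟨g', rfl⟩ := hfull hb
    rw [Subgroup.mem_subgroupOf]
    refine ⟨⁅g, g'⁆, ?_, ?_⟩
    · show Fr.cc h ⁅g, g'⁆ = 1
      rw [map_commutatorElement, commutatorElement_eq_one_iff_mul_comm, mul_comm]
    · rw [map_commutatorElement]
      rfl
  exact Subgroup.subgroupOf_eq_top.1 h1

/-- all vectors occur in the radical -/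
theorem ww_surj (h : fr.Par Y) (hperf : commutator (spGL k F) = ⊤) (hfull : spGL k F ≤ (fr.rho h.ok).range)
    {g₀ : GL (Fin m ⊕ Fin m) F} (hg₀ : g₀ ∈ Q h) (hg₀T : g₀ ∉ T h) (w : Fin k ⊕ Fin k → F) :
    ∃ g ∈ Q h, fr.π ((g : Matrix _ _ F) *ᵥ fr.v) = w := by
  by_cases hw : w = 0
  · exact ⟨1, (Q h).one_mem, by rw [Units.val_one, one_mulVec, fr.πv, hw]⟩
  have h0 : fr.π ((g₀ : Matrix _ _ F) *ᵥ fr.v) ≠ 0 := fun h0 => hg₀T ((mem_T h).2 ⟨hg₀, h0⟩)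
  obtain ⟨A, hA, hAw⟩ := sp_trans h0 hw
  obtain ⟨y, hy1, hy2⟩ := cover h hperf hfull hA
  have hyu : ((y : GL (Fin m ⊕ Fin m) F) : Matrix _ _ F) *ᵥ fr.u = fr.u := by
    have k1 := Fr.cc_smul h y
    have k2 : Fr.cc h y = 1 := hy1
    rwa [k2, Units.val_one, one_smul] at k1
  have hyS := Cd.mem_spGL.1 (h.1 y.2)
  obtain ⟨a1, a2, a3⟩ := (mem_Q h).1 hg₀
  have key : ∀ x, (((y : GL (Fin m ⊕ Fin m) F) * g₀ * (y : GL (Fin m ⊕ Fin m) F)⁻¹ : GL (Fin m ⊕ Fin m) F) : Matrix _ _ F) *ᵥ x =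
      x + sympForm m F fr.u x • (sympForm m F ((g₀ : Matrix _ _ F) *ᵥ fr.v) fr.v • fr.u +
        ((y : GL (Fin m ⊕ Fin m) F) : Matrix _ _ F) *ᵥ fr.ι (fr.π ((g₀ : Matrix _ _ F) *ᵥ fr.v))) +
        sympForm k F (fr.π ((g₀ : Matrix _ _ F) *ᵥ fr.v)) (fr.π ((((y : GL (Fin m ⊕ Fin m) F)⁻¹ : GL (Fin m ⊕ Fin m) F) : Matrix _ _ F) *ᵥ x)) • fr.u := by
    intro x
    have hux : sympForm m F fr.u ((((y : GL (Fin m ⊕ Fin m) F)⁻¹ : GL (Fin m ⊕ Fin m) F) : Matrix _ _ F) *ᵥ x) = sympForm m F fr.u x := by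
      rw [← hyS, hyu, inv_mulVec]
    rw [Units.val_mul, Units.val_mul, ← mulVec_mulVec, ← mulVec_mulVec, Q_eq h hg₀, mulVec_add, mulVec_add, mulVec_smul,
      mulVec_add, mulVec_smul, mulVec_smul, hyu, inv_mulVec, hux]
  refine ⟨(y : GL (Fin m ⊕ Fin m) F) * g₀ * (y : GL (Fin m ⊕ Fin m) F)⁻¹, ?_, ?_⟩
  · have k1 : (Q h).subgroupOf Y = (fr.rho h.ok).ker ⊓ (cc h).ker := by
      ext z
      rw [Subgroup.mem_subgroupOf]
      constructor
      · rintro ⟨z', hz', hzz⟩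
        rw [← (Subtype.ext hzz : z' = z)]
        exact hz'
      · intro hz
        exact ⟨z, hz, rfl⟩
    have k2 : (⟨g₀, a1⟩ : Y) ∈ (fr.rho h.ok).ker ⊓ (cc h).ker := by
      rw [← k1, Subgroup.mem_subgroupOf]; exact hg₀
    have k3 : y * ⟨g₀, a1⟩ * y⁻¹ ∈ (fr.rho h.ok).ker ⊓ (cc h).ker :=
      ⟨(MonoidHom.normal_ker (fr.rho h.ok)).conj_mem _ k2.1 y, (MonoidHom.normal_ker (cc h)).conj_mem _ k2.2 y⟩
    rw [← k1, Subgroup.mem_subgroupOf] at k3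
    exact k3
  · rw [key, fr.uv, one_smul, map_add, map_add, map_add, map_smul, map_smul, fr.πv, fr.πu, smul_zero, smul_zero, zero_add,
      zero_add, add_zero, ← rho_mulVec h.ok, hy2, hAw]

/-- all transvections with centre `u` -/
theorem TA_top (h : fr.Par Y) (hk : 1 ≤ k) (h2 : (2 : F) ≠ 0) (hperf : commutator (spGL k F) = ⊤)
    (hfull : spGL k F ≤ (fr.rho h.ok).range)
    {g₀ : GL (Fin m ⊕ Fin m) F} (hg₀ : g₀ ∈ Q h) (hg₀T : g₀ ∉ T h) (c : F) : c ∈ TA Y fr.u := by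
  obtain ⟨w, w', hww⟩ : ∃ w w' : Fin k ⊕ Fin k → F, sympForm k F w w' = c / 2 := by
    refine ⟨Pi.single (Sum.inr ⟨0, by omega⟩) 1, (c / 2) • Pi.single (Sum.inl ⟨0, by omega⟩) 1, ?_⟩
    rw [sympForm_smul_right, sympForm_single_inr_left, Pi.single_eq_same, mul_one]
  obtain ⟨g, hg, hgw⟩ := ww_surj h hperf hfull hg₀ hg₀T w
  obtain ⟨g', hg', hgw'⟩ := ww_surj h hperf hfull hg₀ hg₀T w'
  set τ := (g' * g)⁻¹ * (g * g') with hτ
  have hτQ : τ ∈ Q h := (Q h).mul_mem ((Q h).inv_mem ((Q h).mul_mem hg' hg)) ((Q h).mul_mem hg hg')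
  have hτT : τ ∈ T h := by
    have h1 : (⟨τ, hτQ⟩ : Q h) ∈ (ww h).ker := by
      have h3 : (⟨τ, hτQ⟩ : Q h) = (⟨g', hg'⟩ * ⟨g, hg⟩)⁻¹ * (⟨g, hg⟩ * ⟨g', hg'⟩) := rfl
      rw [MonoidHom.mem_ker, h3, map_mul, map_inv, map_mul, map_mul, mul_comm (ww h ⟨g', hg'⟩), inv_mul_cancel]
    exact ⟨_, h1, rfl⟩
  have hgu := ((mem_Q h).1 hg).2.1
  have hgu' := ((mem_Q h).1 hg').2.1
  set b := sympForm m F ((τ : Matrix _ _ F) *ᵥ fr.v) fr.v with hb
  have hτv : (τ : Matrix _ _ F) *ᵥ fr.v = fr.v + b • fr.u := by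
    rw [T_eq h hτT, fr.uv, mul_one]
  have h5 : ((g' * g : GL (Fin m ⊕ Fin m) F) : Matrix (Fin m ⊕ Fin m) (Fin m ⊕ Fin m) F) *ᵥ ((τ : Matrix (Fin m ⊕ Fin m) (Fin m ⊕ Fin m) F) *ᵥ fr.v) =
      ((g * g' : GL (Fin m ⊕ Fin m) F) : Matrix (Fin m ⊕ Fin m) (Fin m ⊕ Fin m) F) *ᵥ fr.v := by
    rw [mulVec_mulVec, ← Units.val_mul, hτ, mul_inv_cancel_left]
  obtain ⟨a, hgv⟩ : ∃ a : F, (g : Matrix (Fin m ⊕ Fin m) (Fin m ⊕ Fin m) F) *ᵥ fr.v = a • fr.u + fr.v + fr.ι w := by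
    have := Q_v h hg
    rw [hgw] at this
    exact ⟨_, this⟩
  obtain ⟨a', hgv'⟩ : ∃ a : F, (g' : Matrix (Fin m ⊕ Fin m) (Fin m ⊕ Fin m) F) *ᵥ fr.v = a • fr.u + fr.v + fr.ι w' := by
    have := Q_v h hg'
    rw [hgw'] at this
    exact ⟨_, this⟩
  have hgι := fun y => Q_ι h hg y
  have hgι' := fun y => Q_ι h hg' y
  simp only [hgw] at hgι
  simp only [hgw'] at hgι'
  rw [hτv, Units.val_mul, Units.val_mul, ← mulVec_mulVec, ← mulVec_mulVec, mulVec_add, mulVec_smul, hgu, mulVec_add,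
    mulVec_smul, hgu', hgv, hgv', mulVec_add, mulVec_add, mulVec_add, mulVec_add, mulVec_smul, mulVec_smul, hgu, hgu', hgv,
    hgv', hgι, hgι'] at h5
  have h6 : (b - (sympForm k F w w' - sympForm k F w' w)) • fr.u = 0 := by
    have h7 := sub_eq_zero.2 h5
    rw [← h7]
    module
  have h7 : b = c := by
    have h8 := (smul_eq_zero.1 h6).resolve_right fr.u_ne
    rw [sympForm_swap w' w, hww] at h8
    have h9 : c / 2 + c / 2 = c := by field_simp; ring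
    linear_combination h8 + h9
  rw [← h7]
  exact mem_TA_of_T h hτT

theorem card_Q_full (h : fr.Par Y) (hk : 1 ≤ k) (h2 : (2 : F) ≠ 0) (hperf : commutator (spGL k F) = ⊤)
    (hfull : spGL k F ≤ (fr.rho h.ok).range)
    {g₀ : GL (Fin m ⊕ Fin m) F} (hg₀ : g₀ ∈ Q h) (hg₀T : g₀ ∉ T h) :
    Nat.card (Q h) = Fintype.card F ^ (2 * k) * Fintype.card F := by
  have hT : T h ≤ Q h := fun _ hg => ((mem_T h).1 hg).1
  have h1 := card_fib hT (ww h) (fun g => by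
    rw [mem_T]
    constructor
    · intro hg; exact ⟨g.2, Multiplicative.ofAdd.injective hg⟩
    · rintro ⟨-, hg⟩; exact congrArg Multiplicative.ofAdd hg)
  rw [h1]
  congr 1
  · have h3 : Nat.card (Multiplicative (Fin k ⊕ Fin k → F)) = Fintype.card F ^ (2 * k) := by
      rw [Nat.card_congr Multiplicative.toAdd, Nat.card_fun, Nat.card_sum, Nat.card_fin, Nat.card_eq_fintype_card, two_mul]
    have h4 : (ww h).range = ⊤ := by
      rw [eq_top_iff]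
      intro w _
      obtain ⟨g, hg, hgw⟩ := ww_surj h hperf hfull hg₀ hg₀T (Multiplicative.toAdd w)
      exact ⟨⟨g, hg⟩, congrArg Multiplicative.ofAdd hgw⟩
    rw [h4, ← h3]
    exact Nat.card_congr Subgroup.topEquiv.toEquiv
  · rw [card_T]
    have h4 : TA Y fr.u = ⊤ := by
      rw [eq_top_iff]
      intro c _
      exact TA_top h hk h2 hperf hfull hg₀ hg₀T c
    rw [h4, ← Nat.card_eq_fintype_card]
    exact Nat.card_congr AddSubgroup.topEquiv.toEquiv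

/-- the two cases -/
theorem par_cases (h : fr.Par Y) (hk : 1 ≤ k) (h2 : (2 : F) ≠ 0) (hperf : commutator (spGL k F) = ⊤)
    (hfull : spGL k F ≤ (fr.rho h.ok).range) :
    Nat.card Y ∣ Nat.card (spGL k F) * ((Fintype.card F - 1) * Fintype.card F) ∨
    ∃ c, c ∣ Fintype.card F - 1 ∧ Nat.card Y = Nat.card (spGL k F) * (c * (Fintype.card F ^ (2 * k) * Fintype.card F)) := by
  have hr : (fr.rho h.ok).range = spGL k F := by
    refine le_antisymm ?_ hfull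
    rintro _ ⟨x, rfl⟩
    exact rho_mem h.ok x
  obtain ⟨c, hc, h1⟩ := card_par h
  rw [hr] at h1
  by_cases hQ : ∃ g ∈ Q h, g ∉ T h
  · right
    obtain ⟨g₀, hg₀, hg₀T⟩ := hQ
    exact ⟨c, hc, by rw [h1, card_Q_full h hk h2 hperf hfull hg₀ hg₀T]⟩
  · left
    push Not at hQ
    have h3 : Q h = T h := le_antisymm hQ (fun g hg => ((mem_T h).1 hg).1)
    rw [h1, h3]
    exact Nat.mul_dvd_mul_left _ (Nat.mul_dvd_mul hc (card_T_dvd h))

/-- the general bound -/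
theorem par_dvd (h : fr.Par Y) :
    Nat.card Y ∣ Nat.card (fr.rho h.ok).range * ((Fintype.card F - 1) * (Fintype.card F ^ (2 * k) * Fintype.card F)) := by
  obtain ⟨c, hc, h1⟩ := card_par h
  obtain ⟨c', hc', h3⟩ := card_Q h
  rw [h1, h3]
  exact Nat.mul_dvd_mul_left _ (Nat.mul_dvd_mul hc (Nat.mul_dvd_mul hc' (card_T_dvd h)))

end full

end Fr

end Cfsg.Agent.H402.Rg
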