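import Cfsg.Agent.H402.Rg.Dk

/-!
# Subgroups of the normaliser of a symplectic field
-/

set_option autoImplicit false
set_option linter.unusedSectionVars false

namespace Cfsg.Agent.H402.Rg

open Module Matrix Cfsg Cfsg.Geo
open scoped MatrixGroups Matrix
open Cfsg.Agent.H884.El (PP)
open Cfsg.Agent.ClassicalGeometry.SympBasic

variable {m : ℕ} {F : Type} [Field F] [Fintype F]

theorem PP.prime' {p n r : ℕ} (h : PP p n r) : r.Prime := h.prime

/-- coordinates and the part over the field -/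
theorem norm_cd {s : ℕ} (hm : 1 ≤ m) (hs : 1 ≤ s) {K : Subalgebra F (Matrix (Fin m ⊕ Fin m) (Fin m ⊕ Fin m) F)}
    (hK : IsFieldSubalgebra s K) (hsa : IsSelfAdjointFor (sympForm m F) K)
    (halt : ∀ k ∈ K, ∀ v, sympForm m F (k *ᵥ v) v = 0) {R : Subgroup (GL (Fin m ⊕ Fin m) F)} (hR : R ≤ spGL m F)
    (hRK : R ≤ subalgebraNormalizer K) :
    ∃ (E : Type) (_ : Field E) (_ : Fintype E) (_ : Algebra F E) (n : ℕ) (c : Cd m F E n),
      finrank F E = s ∧ Fintype.card E = Fintype.card F ^ s ∧ s * n = m ∧ R.comap c.Psi ≤ spGL n E ∧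
      ∃ j, j ∣ s ∧ Nat.card R = j * Nat.card (R.comap c.Psi) := by
  obtain ⟨E, iE, iE', iA, n, c, h1, h2, h3⟩ := exists_cd hm hs hK hsa halt
  have hfinE : FiniteDimensional F E := Module.Finite.of_finite
  refine ⟨E, iE, iE', iA, n, c, h1, ?_, h3, fun A hA => c.Psi_mem.1 (hR hA), ?_⟩
  · rw [← h1]
    exact Module.card_eq_pow_finrank
  · obtain ⟨j, hj, hc⟩ := c.card_dvd (R := R) hm (by rw [h2]; exact hRK)
    exact ⟨j, by rwa [h1] at hj, hc⟩

theorem card_sp {n : ℕ} {E : Type} [Field E] [Fintype E] : Nat.card (spGL n E) =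
    Fintype.card E ^ (n ^ 2) * ∏ i ∈ Finset.range n, (Fintype.card E ^ (2 * (i + 1)) - 1) := by
  rw [Cfsg.Agent.H955.card_spGL, Nat.card_eq_fintype_card]

/-- the order -/
theorem norm_dvd {s n : ℕ} (hm : 1 ≤ m) (hs : 1 ≤ s) (hn : s * n = m) {K : Subalgebra F (Matrix (Fin m ⊕ Fin m) (Fin m ⊕ Fin m) F)}
    (hK : IsFieldSubalgebra s K) (hsa : IsSelfAdjointFor (sympForm m F) K)
    (halt : ∀ k ∈ K, ∀ v, sympForm m F (k *ᵥ v) v = 0) {R : Subgroup (GL (Fin m ⊕ Fin m) F)} (hR : R ≤ spGL m F)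
    (hRK : R ≤ subalgebraNormalizer K) :
    Nat.card R ∣ s * ((Fintype.card F ^ s) ^ (n ^ 2) * ∏ i ∈ Finset.range n, ((Fintype.card F ^ s) ^ (2 * (i + 1)) - 1)) := by
  obtain ⟨E, iE, iE', iA, n', c, h1, h2, h3, h4, j, hj, hc⟩ := norm_cd hm hs hK hsa halt hR hRK
  have hn' : n' = n := Nat.eq_of_mul_eq_mul_left hs (h3.trans hn.symm)
  subst hn'
  rw [hc, ← h2, ← card_sp]
  exact Nat.mul_dvd_mul hj (Subgroup.card_dvd_of_le h4)

/-- **Lemma (D)** -/
theorem dD {p f : ℕ} [hp : Fact p.Prime] [CharP F p] (hF : Fintype.card F = p ^ f) (hf : 1 ≤ f) (h4 : 4 ≤ Fintype.card F)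
    (hm : 1 ≤ m) {r : ℕ} (hr : PP p (2 * (m * f)) r) {K : Subalgebra F (Matrix (Fin m ⊕ Fin m) (Fin m ⊕ Fin m) F)}
    (hK : IsFieldSubalgebra m K) (hsa : IsSelfAdjointFor (sympForm m F) K)
    (halt : ∀ k ∈ K, ∀ v, sympForm m F (k *ᵥ v) v = 0) {R : Subgroup (GL (Fin m ⊕ Fin m) F)} (hR : R ≤ spGL m F)
    (hRK : R ≤ subalgebraNormalizer K) (hrR : r ∣ Nat.card R) :
    (∃ (E : Type) (_ : Field E) (_ : Fintype E) (_ : Algebra F E) (c : Cd m F E 1),
      finrank F E = m ∧ Fintype.card E = Fintype.card F ^ m ∧ ∀ A ∈ spGL 1 E, c.Psi A ∈ R) ∨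
    Nat.card R ≤ m * (4 * (Fintype.card F ^ m + 1)) ∨ Nat.card R ≤ m * 120 := by
  obtain ⟨E, iE, iE', iA, n, c, h1, h2, h3, h5, j, hj, hc⟩ := norm_cd hm hm hK hsa halt hR hRK
  have hn : n = 1 := Nat.eq_of_mul_eq_mul_left hm (h3.trans (mul_one m).symm)
  subst hn
  have hjm : j ≤ m := Nat.le_of_dvd hm hj
  have hrj : ¬ r ∣ j := by
    intro h
    have h6 := Nat.le_of_dvd hm (h.trans hj)
    have h7 := hr.lt (by have := Nat.mul_pos hm hf; omega)
    have h8 : m * 1 ≤ m * f := Nat.mul_le_mul_left _ hf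
    omega
  have hr1 : r ∣ Nat.card (R.comap c.Psi) := by
    rw [hc] at hrR
    exact (hr.prime.dvd_mul.1 hrR).resolve_left hrj
  have hE : Fintype.card E = p ^ (m * f) := by rw [h2, hF, ← pow_mul, mul_comm]
  have hchar : CharP E p := charP_of_injective_algebraMap (algebraMap F E).injective p
  have hE4 : 4 ≤ Fintype.card E := by
    rw [h2]
    calc 4 ≤ Fintype.card F := h4
      _ = Fintype.card F ^ 1 := (pow_one _).symm
      _ ≤ Fintype.card F ^ m := Nat.pow_le_pow_right (by omega) hm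
  rcases sp1_pp hE (Nat.mul_pos hm hf) hE4 hr h5 hr1 with h | h | h
  · exact Or.inl ⟨E, iE, iE', iA, c, h1, h2, fun A hA => h hA⟩
  · right; left
    rw [hc, ← h2]
    exact Nat.mul_le_mul hjm h
  · right; right
    rw [hc]
    exact Nat.mul_le_mul hjm h

end Cfsg.Agent.H402.Rg
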