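import Cfsg.Agent.H454.Reg.Tools
import Cfsg.Agent.H934.OutB
import Cfsg.Agent.H618.Dp.Red
import Cfsg.Agent.S0814
import Cfsg.Agent.S2141
import Cfsg.Agent.H402.Rg.Dd

/-!
# S3691: exact factorizations with socle `PSp_2m(q)`, `q` odd, in terms of subgroups of `Sp_2m(q)`
-/

set_option autoImplicit false
set_option linter.unusedSectionVars false

namespace Cfsg.Agent.H402.Rg

open Matrix Cfsg Cfsg.Geo
open scoped MatrixGroups Matrix
open Cfsg.Agent.H454.Reg (Fac)
open Cfsg.Agent.H618.Dp (prj prj_surjective mem_pre_iff card_pre card_ker)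
open Cfsg.Agent.H262.El (pre pre_le pre_ne)

/-- exact factorization, in the symplectic group -/
structure Ctx (m : ℕ) (F : Type) [Field F] [Fintype F] (f : ℕ) (X Y : Subgroup (GL (Fin m ⊕ Fin m) F)) (e : ℕ) : Prop where
  leX : X ≤ spGL m F
  leY : Y ≤ spGL m F
  neX : X ≠ spGL m F
  neY : Y ≠ spGL m F
  nc : ∀ x ∈ X, ∀ g ∈ spGL m F, g * x * g⁻¹ ∈ Y → x = 1 ∨ x = -1
  card : Nat.card X * Nat.card Y * e = 2 * Nat.card (spGL m F)
  he : e ∣ 2 * f
  minX : Nat.card X * ((Fintype.card F ^ (2 * m) - 1) / (Fintype.card F - 1)) ≤ Nat.card (spGL m F)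
  minY : Nat.card Y * ((Fintype.card F ^ (2 * m) - 1) / (Fintype.card F - 1)) ≤ Nat.card (spGL m F)

variable {m : ℕ} {F : Type} [Field F] [Fintype F] {f : ℕ}

theorem Ctx.symm {X Y : Subgroup (GL (Fin m ⊕ Fin m) F)} {e : ℕ} (h : Ctx m F f X Y e) : Ctx m F f Y X e where
  leX := h.leY
  leY := h.leX
  neX := h.neY
  neY := h.neX
  nc := by
    intro x hx g hg hy
    have h1 := h.nc _ hy g⁻¹ ((spGL m F).inv_mem hg) (by
      have e : g⁻¹ * (g * x * g⁻¹) * g⁻¹⁻¹ = x := by group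
      rwa [e])
    rcases h1 with h2 | h2
    · left
      have e : x = g⁻¹ * (g * x * g⁻¹) * g := by group
      rw [e, h2, mul_one, inv_mul_cancel]
    · right
      have e : x = g⁻¹ * (g * x * g⁻¹) * g := by group
      rw [e, h2, mul_neg, mul_one, neg_mul, inv_mul_cancel]
  card := by rw [mul_comm (Nat.card Y)]; exact h.card
  he := h.he
  minX := h.minY
  minY := h.minX

/-- the kernel of the projection -/
theorem card_ker_odd (hodd : Odd (Fintype.card F)) (hm : 1 ≤ m) : Nat.card (prj (m := m) (F := F)).ker = 2 := by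
  have h1 : Nat.card (prj (m := m) (F := F)).ker =
      Nat.card (Subgroup.center (Matrix.symplecticGroup (Fin m) F)) := by
    refine Nat.card_congr ⟨fun x => ⟨(Cfsg.Agent.H618.Dp.eSp (m := m) (F := F)).symm x.1, ?_⟩, fun A => ⟨Cfsg.Agent.H618.Dp.eSp A.1, ?_⟩, fun x => ?_, fun A => ?_⟩
    · have h2 := x.2
      rw [MonoidHom.mem_ker] at h2
      exact (QuotientGroup.eq_one_iff _).1 h2
    · rw [MonoidHom.mem_ker, Cfsg.Agent.H618.Dp.prj_eSp]
      exact (QuotientGroup.eq_one_iff _).2 A.2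
    · exact Subtype.ext (MulEquiv.apply_symm_apply _ _)
    · exact Subtype.ext (MulEquiv.symm_apply_apply _ _)
  rw [h1, Cfsg.Agent.S0246.result (q := Fintype.card F) rfl m hm]
  obtain ⟨k, hk⟩ := hodd
  rw [hk, Nat.add_sub_cancel, Nat.gcd_mul_right_right]

theorem neg_one_mem : (-1 : GL (Fin m ⊕ Fin m) F) ∈ spGL m F := by
  rw [Cd.mem_spGL]
  intro x y
  rw [Units.val_neg, Units.val_one, neg_mulVec, neg_mulVec, one_mulVec, one_mulVec,
    Cfsg.Agent.ClassicalGeometry.SympBasic.sympForm_neg_left, Cfsg.Agent.ClassicalGeometry.SympBasic.sympForm_neg_right, neg_neg]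

theorem two_ne (hodd : Odd (Fintype.card F)) : (2 : F) ≠ 0 := by
  intro h0
  obtain ⟨p, hp⟩ := CharP.exists F
  obtain ⟨n, hpp, hn⟩ := FiniteField.card F p
  have h1 : ((2 : ℕ) : F) = 0 := by exact_mod_cast h0
  rw [CharP.cast_eq_zero_iff F p] at h1
  have h2 : p = 2 := (Nat.prime_dvd_prime_iff_eq hpp Nat.prime_two).1 h1
  rw [hn, h2] at hodd
  have := (Nat.odd_pow_iff n.ne_zero).1 hodd
  exact absurd this (by decide)

theorem eq_of_prj (hodd : Odd (Fintype.card F)) (hm : 1 ≤ m) {x : spGL m F} (hx : prj x = 1) :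
    (x : GL (Fin m ⊕ Fin m) F) = 1 ∨ (x : GL (Fin m ⊕ Fin m) F) = -1 := by
  have h2 := two_ne hodd
  have hne : Nonempty (Fin m ⊕ Fin m) := ⟨Sum.inl ⟨0, by omega⟩⟩
  have hneg : (⟨-1, neg_one_mem⟩ : spGL m F) ∈ (prj (m := m) (F := F)).ker := by
    rw [MonoidHom.mem_ker]
    have h3 : (Cfsg.Agent.H618.Dp.eSp (m := m) (F := F)).symm ⟨-1, neg_one_mem⟩ ∈ Subgroup.center (Matrix.symplecticGroup (Fin m) F) := by
      rw [Subgroup.mem_center_iff]
      intro g
      apply (Cfsg.Agent.H618.Dp.eSp (m := m) (F := F)).injective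
      rw [map_mul, map_mul, MulEquiv.apply_symm_apply]
      apply Subtype.ext
      simp
    exact (QuotientGroup.eq_one_iff _).2 h3
  have hn1 : (⟨⟨-1, neg_one_mem⟩, hneg⟩ : (prj (m := m) (F := F)).ker) ≠ 1 := by
    intro h
    have h3 : (-1 : GL (Fin m ⊕ Fin m) F) = 1 := congrArg (fun z => ((z : (prj (m := m) (F := F)).ker) : GL (Fin m ⊕ Fin m) F)) h
    have h4 := congrArg (fun z : GL (Fin m ⊕ Fin m) F => (z : Matrix (Fin m ⊕ Fin m) (Fin m ⊕ Fin m) F) (Sum.inl ⟨0, by omega⟩) (Sum.inl ⟨0, by omega⟩)) h3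
    simp only [Units.val_neg, Units.val_one, Matrix.neg_apply, Matrix.one_apply_eq] at h4
    apply h2
    linear_combination -h4
  obtain ⟨y, hy, hyu⟩ := (Nat.card_eq_two_iff' (1 : (prj (m := m) (F := F)).ker)).1 (card_ker_odd hodd hm)
  by_cases hx1 : (⟨x, hx⟩ : (prj (m := m) (F := F)).ker) = 1
  · left
    exact congrArg (fun z => ((z : (prj (m := m) (F := F)).ker) : GL (Fin m ⊕ Fin m) F)) hx1
  · right
    have h3 := (hyu _ hx1).trans (hyu _ hn1).symm
    exact congrArg (fun z => ((z : (prj (m := m) (F := F)).ker) : GL (Fin m ⊕ Fin m) F)) h3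

universe u

/-- **the context of an exact factorization** -/
theorem exists_ctx {G : Type u} [Group G] [Finite G] {T X Y : Subgroup G} (h : Fac T X Y) (i : T ≃* PSp m F) {p : ℕ}
    (hp : p.Prime) (hf : 1 ≤ f) (hF : Fintype.card F = p ^ f) (hodd : Odd (Fintype.card F)) (h5 : 5 ≤ Fintype.card F)
    (hm : 2 ≤ m) : ∃ X₁ Y₁ e, Ctx m F f X₁ Y₁ e := by
  classical
  have hfin : Finite (GL (Fin m ⊕ Fin m) F) := inferInstance
  have := h.simple
  have hpf : Fact p.Prime := ⟨hp⟩
  have hp2 : p ≠ 2 := by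
    rintro rfl
    rw [hF] at hodd
    exact absurd ((Nat.odd_pow_iff (by omega)).1 hodd) (by decide)
  have h3 : 3 ≤ Fintype.card F := by
    have h1 : 1 < Fintype.card F := Fintype.one_lt_card
    obtain ⟨k, hk⟩ := hodd
    omega
  have hout : Nat.card (Out T) = 2 * f := by
    apply Cfsg.Agent.H934.OutB.card_out_of_aut h.nonab
    rw [Nat.card_congr (MulAut.congr i).toEquiv, S0814.result p f hf hF m hm (fun _ => by rw [← hF]; exact h3),
      Nat.card_congr i.toEquiv, if_neg (fun hc => hp2 hc.2)]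
    obtain ⟨k, hk⟩ := hodd
    rw [← hF, hk, Nat.add_sub_cancel, Nat.gcd_mul_right_right, one_mul]
  obtain ⟨e, -, he, hcard⟩ := h.card0
  rw [hout] at he
  have hker := card_ker_odd (m := m) hodd (by omega)
  set X0 : Subgroup (PSp m F) := (X.subgroupOf T).map i.toMonoidHom with hX0
  set Y0 : Subgroup (PSp m F) := (Y.subgroupOf T).map i.toMonoidHom with hY0
  have hcX : Nat.card X0 = Nat.card (X.subgroupOf T) := Subgroup.card_map_of_injective i.injective
  have hcY : Nat.card Y0 = Nat.card (Y.subgroupOf T) := Subgroup.card_map_of_injective i.injective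
  have hX0t : X0 ≠ ⊤ := by
    intro h0
    apply h.ne_top_left
    apply Subgroup.map_injective (f := i.toMonoidHom) i.injective
    rw [← hX0, h0]
    exact (Subgroup.map_top_of_surjective _ i.surjective).symm
  have hY0t : Y0 ≠ ⊤ := by
    intro h0
    apply h.ne_top_right
    apply Subgroup.map_injective (f := i.toMonoidHom) i.injective
    rw [← hY0, h0]
    exact (Subgroup.map_top_of_surjective _ i.surjective).symm
  have hmin : ∀ R : Subgroup (PSp m F), R ≠ ⊤ → Nat.card (pre R) * ((Fintype.card F ^ (2 * m) - 1) / (Fintype.card F - 1)) ≤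
      Nat.card (spGL m F) := by
    intro R hR
    have h1 := (S2141.result (F := F) rfl m hm h3 (by omega)).1 R hR
    rw [← card_ker (m := m) (F := F), card_pre, mul_comm (Nat.card R), mul_assoc, ← R.card_mul_index]
    exact Nat.mul_le_mul_left _ (Nat.mul_le_mul_left _ h1)
  refine ⟨pre X0, pre Y0, e, pre_le _, pre_le _, pre_ne hX0t, pre_ne hY0t, ?_, ?_, he, hmin _ hX0t, hmin _ hY0t⟩
  · intro x hx g hg hy
    have hxS := pre_le _ hx
    have h1 := (mem_pre_iff (⟨x, hxS⟩ : spGL m F)).1 hx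
    have hyS := pre_le _ hy
    have h2 := (mem_pre_iff (⟨g * x * g⁻¹, hyS⟩ : spGL m F)).1 hy
    obtain ⟨t, ht, htx⟩ := h1
    obtain ⟨t', ht', ht'x⟩ := h2
    obtain ⟨s, hs⟩ := i.surjective (prj (⟨g, hg⟩ : spGL m F))
    have h3 : t' = s * t * s⁻¹ := by
      apply i.injective
      rw [map_mul, map_mul, map_inv, hs]
      have h4 : i t = prj (⟨x, hxS⟩ : spGL m F) := htx
      have h5 : i t' = prj (⟨g * x * g⁻¹, hyS⟩ : spGL m F) := ht'x
      rw [h4, h5, ← map_inv, ← map_mul, ← map_mul]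
      rfl
    have h4 : (t : G) = 1 := by
      refine h.not_conj (Subgroup.mem_subgroupOf.1 ht) (s : G) ?_
      have h5 : ((s * t * s⁻¹ : T) : G) ∈ Y := by rw [← h3]; exact Subgroup.mem_subgroupOf.1 ht'
      exact h5
    have h5 : t = 1 := Subtype.ext h4
    have h6 : prj (⟨x, hxS⟩ : spGL m F) = 1 := by
      have h7 : i t = prj (⟨x, hxS⟩ : spGL m F) := htx
      rw [← h7, h5, map_one]
    exact eq_of_prj hodd (by omega) h6
  · rw [card_pre, card_pre, hker, hcX, hcY]
    have h1 := card_ker (m := m) (F := F)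
    rw [hker, ← Nat.card_congr i.toEquiv] at h1
    rw [← h1, ← hcard]
    ring

/-! ### maximal subgroups -/

theorem exists_max {G : Type*} [Group G] [Finite G] {S X : Subgroup G} (hX : X ≤ S) (hne : X ≠ S) :
    ∃ M : Subgroup G, IsMaximalIn S M ∧ X ≤ M := by
  classical
  let A : Set (Subgroup G) := {L | X ≤ L ∧ L ≤ S ∧ L ≠ S}
  have hfin : A.Finite := Set.toFinite A
  obtain ⟨L, hL, hmax⟩ := hfin.exists_le_maximal (show X ∈ A from ⟨le_rfl, hX, hne⟩)
  refine ⟨L, ⟨lt_of_le_of_ne hmax.prop.2.1 hmax.prop.2.2, fun M' hLM' hM'K => ?_⟩, hmax.prop.1⟩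
  by_cases h1 : M' = S
  · exact Or.inr h1
  · left
    have h2 : M' ∈ A := ⟨hmax.prop.1.trans hLM', hM'K, h1⟩
    exact le_antisymm (hmax.le_of_ge h2 hLM') hLM'

end Cfsg.Agent.H402.Rg
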