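import Cfsg.Agent.H402.Rg.EvDefs
import Cfsg.Agent.ClassicalGeometry.Sp4Graph

/-!
# 2-subgroups of `Sp_4(2^f)` without involutions of type `c₂` have order at most `2^f`
-/

set_option autoImplicit false
set_option linter.unusedSectionVars false

namespace Cfsg.Agent.H402.Rg.EvA

open Matrix Cfsg Cfsg.Geo Cfsg.Agent.H402.Rg
open scoped MatrixGroups Matrix

local notation "I4" => (Fin 2 ⊕ Fin 2)

variable {F : Type} [Field F]

/-- upper triangular matrices -/
def mU (a b c d : F) : Matrix I4 I4 F :=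
  Matrix.fromBlocks !![1, a; 0, 1] !![d, c; c + a * b, b] 0 !![1, 0; a, 1]

theorem mU_mul [CharP F 2] (a b c d a' b' c' d' : F) : mU a b c d * mU a' b' c' d' =
    mU (a + a') (b + b') (c + c' + a * b') (d + d' + a' * c + a * c' + a * a' * b') := by
  have h2 : ∀ z : F, z + z = 0 := fun z => CharTwo.add_self_eq_zero z
  unfold mU
  rw [Matrix.fromBlocks_multiply]
  congr 1
  · ext i j; fin_cases i <;> fin_cases j <;> simp [Matrix.mul_apply, Fin.sum_univ_two, add_comm]
  · ext i j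
    fin_cases i <;> fin_cases j <;> simp [Matrix.mul_apply, Fin.sum_univ_two]
    · ring
    · ring
    · linear_combination -(h2 (a * b'))
    · ring
  · ext i j; fin_cases i <;> fin_cases j <;> simp [Matrix.mul_apply, Fin.sum_univ_two]
  · ext i j; fin_cases i <;> fin_cases j <;> simp [Matrix.mul_apply, Fin.sum_univ_two, add_comm]

theorem mU_zero : mU (0 : F) 0 0 0 = 1 := by
  unfold mU
  rw [← Matrix.fromBlocks_one]
  congr 1
  · ext i j; fin_cases i <;> fin_cases j <;> simp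
  · ext i j; fin_cases i <;> fin_cases j <;> simp
  · ext i j; fin_cases i <;> fin_cases j <;> simp

theorem mU_inj {a b c d a' b' c' d' : F} (h : mU a b c d = mU a' b' c' d') : a = a' ∧ b = b' ∧ c = c' ∧ d = d' := by
  have h1 := congrFun (congrFun h (Sum.inl 0)) (Sum.inl 1)
  have h2 := congrFun (congrFun h (Sum.inl 1)) (Sum.inr 1)
  have h3 := congrFun (congrFun h (Sum.inl 0)) (Sum.inr 1)
  have h4 := congrFun (congrFun h (Sum.inl 0)) (Sum.inr 0)
  simp [mU] at h1 h2 h3 h4
  exact ⟨h1, h2, h3, h4⟩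

variable [CharP F 2]

/-- the invertible matrix -/
def gU (a b c d : F) : GL I4 F where
  val := mU a b c d
  inv := mU a b (c + a * b) d
  val_inv := by
    have h2 : ∀ z : F, z + z = 0 := fun z => CharTwo.add_self_eq_zero z
    rw [mU_mul, ← mU_zero]
    congr 1
    · exact h2 a
    · exact h2 b
    · linear_combination h2 c + h2 (a * b)
    · linear_combination h2 d + h2 (a * c) + h2 (a * a * b)
  inv_val := by
    have h2 : ∀ z : F, z + z = 0 := fun z => CharTwo.add_self_eq_zero z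
    rw [mU_mul, ← mU_zero]
    congr 1
    · exact h2 a
    · exact h2 b
    · linear_combination h2 c + h2 (a * b)
    · linear_combination h2 d + h2 (a * c) + h2 (a * a * b)

theorem gU_val (a b c d : F) : ((gU a b c d : GL I4 F) : Matrix I4 I4 F) = mU a b c d := rfl

theorem gU_mul (a b c d a' b' c' d' : F) : gU a b c d * gU a' b' c' d' =
    gU (a + a') (b + b') (c + c' + a * b') (d + d' + a' * c + a * c' + a * a' * b') := by
  apply Units.ext
  rw [Units.val_mul, gU_val, gU_val, gU_val, mU_mul]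

theorem gU_zero : gU (0 : F) 0 0 0 = 1 := Units.ext mU_zero

theorem gU_inv (a b c d : F) : (gU a b c d)⁻¹ = gU a b (c + a * b) d := Units.ext rfl

/-- the group of upper triangular matrices -/
def UU (F : Type) [Field F] [CharP F 2] : Subgroup (GL I4 F) where
  carrier := {g | ∃ a b c d, g = gU a b c d}
  one_mem' := ⟨0, 0, 0, 0, gU_zero.symm⟩
  mul_mem' := by
    rintro _ _ ⟨a, b, c, d, rfl⟩ ⟨a', b', c', d', rfl⟩
    exact ⟨_, _, _, _, gU_mul _ _ _ _ _ _ _ _⟩
  inv_mem' := by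
    rintro _ ⟨a, b, c, d, rfl⟩
    exact ⟨_, _, _, _, gU_inv _ _ _ _⟩

theorem mem_UU {g : GL I4 F} : g ∈ UU F ↔ ∃ a b c d, g = gU a b c d := Iff.rfl

theorem card_UU [Fintype F] : Nat.card (UU F) = Fintype.card F ^ 4 := by
  have h : Nat.card (F × F × F × F) = Nat.card (UU F) := by
    refine Nat.card_congr (Equiv.ofBijective (fun z : F × F × F × F => (⟨gU z.1 z.2.1 z.2.2.1 z.2.2.2, _, _, _, _, rfl⟩ : UU F)) ⟨?_, ?_⟩)
    · rintro ⟨a, b, c, d⟩ ⟨a', b', c', d'⟩ h
      have h1 : mU a b c d = mU a' b' c' d' := congrArg (fun z : UU F => ((z : GL I4 F) : Matrix I4 I4 F)) h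
      obtain ⟨rfl, rfl, rfl, rfl⟩ := mU_inj h1
      rfl
    · rintro ⟨_, a, b, c, d, rfl⟩
      exact ⟨⟨a, b, c, d⟩, rfl⟩
  rw [← h, Nat.card_prod, Nat.card_prod, Nat.card_prod, Nat.card_eq_fintype_card]
  ring

theorem mU_mulVec (a b c d : F) (z : I4 → F) : mU a b c d *ᵥ z =
    Sum.elim ![z (.inl 0) + a * z (.inl 1) + d * z (.inr 0) + c * z (.inr 1),
      z (.inl 1) + (c + a * b) * z (.inr 0) + b * z (.inr 1)] ![z (.inr 0), a * z (.inr 0) + z (.inr 1)] := by
  ext i
  rcases i with i | i <;> fin_cases i <;>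
    simp [mU, Matrix.mulVec, dotProduct, Fintype.sum_sum_type, Fin.sum_univ_two] <;> ring

theorem UU_le : UU F ≤ spGL 2 F := by
  rintro _ ⟨a, b, c, d, rfl⟩
  rw [Cd.mem_spGL]
  intro x y
  have h2 : ∀ z : F, z + z = 0 := fun z => CharTwo.add_self_eq_zero z
  rw [Cfsg.Agent.ClassicalGeometry.Sp4Graph.sympForm_eq, Cfsg.Agent.ClassicalGeometry.Sp4Graph.sympForm_eq, gU_val, mU_mulVec, mU_mulVec]
  simp only [Sum.elim_inl, Sum.elim_inr, Matrix.cons_val_zero, Matrix.cons_val_one]
  linear_combination h2 (a * x (.inl 1) * y (.inr 0)) + h2 (a * x (.inr 0) * y (.inl 1)) + h2 (d * x (.inr 0) * y (.inr 0)) + h2 (c * x (.inr 1) * y (.inr 0)) + h2 (c * x (.inr 0) * y (.inr 1))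
   + h2 (a * c * x (.inr 0) * y (.inr 0)) + h2 (b * x (.inr 1) * y (.inr 1)) + h2 (a * b * x (.inr 1) * y (.inr 0)) + h2 (a * b * x (.inr 0) * y (.inr 1)) + h2 (a * a * b * x (.inr 0) * y (.inr 0))

end Cfsg.Agent.H402.Rg.EvA
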