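import Cfsg.Agent.H402.Rg.EvA

/-!
# 2-subgroups of `Sp_4(2^f)` without involutions of type `c₂` have order at most `2^f`
-/

set_option autoImplicit false
set_option linter.unusedSectionVars false

namespace Cfsg.Agent.H402.Rg.EvA

open Matrix Cfsg Cfsg.Geo Cfsg.Agent.H402.Rg
open scoped MatrixGroups Matrix

local notation "I4" => (Fin 2 ⊕ Fin 2)

variable {F : Type} [Field F] [Fintype F] [CharP F 2]

theorem gU_sq {a b c d : F} (h : a * b = 0) : gU a b c d * gU a b c d = 1 := by
  have h2 : ∀ z : F, z + z = 0 := fun z => CharTwo.add_self_eq_zero z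
  rw [gU_mul, ← gU_zero]
  congr 1
  · exact h2 a
  · exact h2 b
  · linear_combination h2 c + h
  · linear_combination h2 d + h2 (a * c) + a * h

theorem isC2_one {a c d : F} (ha : a ≠ 0) (hd : d ≠ 0) : IsC2 (gU a 0 c d) := by
  refine ⟨UU_le ⟨_, _, _, _, rfl⟩, gU_sq (mul_zero a), ⟨Pi.single (Sum.inr 0) 1, ?_⟩, Pi.single (Sum.inr 0) 1, Pi.single (Sum.inl 1) 1, ?_⟩
  · rw [Cfsg.Agent.ClassicalGeometry.Sp4Graph.sympForm_eq, gU_val, mU_mulVec]
    simp [hd]
  · rw [LinearIndependent.pair_iff]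
    intro s t hst
    rw [gU_val, mU_mulVec, mU_mulVec] at hst
    have h1 := congrFun hst (Sum.inr 1)
    have h2 := congrFun hst (Sum.inl 0)
    simp at h1 h2
    have hs : s = 0 := by
      rcases h1 with h1 | h1
      · exact h1
      · exact absurd h1 ha
    refine ⟨hs, ?_⟩
    rw [hs] at h2
    simp at h2
    rcases h2 with h2 | h2
    · exact h2
    · exact absurd h2 ha

theorem isC2_two {b c d : F} (hbd : b ≠ 0 ∨ d ≠ 0) (h : b * d ≠ c * c) : IsC2 (gU 0 b c d) := by
  refine ⟨UU_le ⟨_, _, _, _, rfl⟩, gU_sq (zero_mul b), ?_, Pi.single (Sum.inr 0) 1, Pi.single (Sum.inr 1) 1, ?_⟩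
  · rcases hbd with h1 | h1
    · refine ⟨Pi.single (Sum.inr 1) 1, ?_⟩
      rw [Cfsg.Agent.ClassicalGeometry.Sp4Graph.sympForm_eq, gU_val, mU_mulVec]
      simp [h1]
    · refine ⟨Pi.single (Sum.inr 0) 1, ?_⟩
      rw [Cfsg.Agent.ClassicalGeometry.Sp4Graph.sympForm_eq, gU_val, mU_mulVec]
      simp [h1]
  · rw [LinearIndependent.pair_iff]
    intro s t hst
    rw [gU_val, mU_mulVec, mU_mulVec] at hst
    have h1 := congrFun hst (Sum.inl 1)
    have h2 := congrFun hst (Sum.inl 0)
    simp at h1 h2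
    -- `s c + t b = 0`, `s d + t c = 0`
    have h3 : s * (b * d - c * c) = 0 := by linear_combination b * h2 - c * h1
    have h4 : t * (b * d - c * c) = 0 := by linear_combination d * h1 - c * h2
    have h5 : b * d - c * c ≠ 0 := sub_ne_zero.2 h
    exact ⟨(mul_eq_zero.1 h3).resolve_right h5, (mul_eq_zero.1 h4).resolve_right h5⟩

/-- the combinatorial core -/
theorem card_le_of_UU {S : Subgroup (GL I4 F)} (hS : S ≤ UU F) (hno : ∀ g ∈ S, ¬ IsC2 g) : Nat.card S ≤ Fintype.card F := by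
  classical
  have h2 : ∀ z : F, z + z = 0 := fun z => CharTwo.add_self_eq_zero z
  have hex : ∀ s : S, ∃ z : F × F × F × F, (s : GL I4 F) = gU z.1 z.2.1 z.2.2.1 z.2.2.2 := by
    intro s
    obtain ⟨a, b, c, d, h⟩ := hS s.2
    exact ⟨⟨a, b, c, d⟩, h⟩
  have N1 : ∀ a c d : F, gU a 0 c d ∈ S → a ≠ 0 → d = 0 := by
    intro a c d h ha
    by_contra hd
    exact hno _ h (isC2_one ha hd)
  have N2 : ∀ b c d : F, gU 0 b c d ∈ S → (b ≠ 0 ∨ d ≠ 0) → b * d = c * c := by
    intro b c d h hbd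
    by_contra hd
    exact hno _ h (isC2_two hbd hd)
  have N3 : ∀ a b c d : F, gU a b c d ∈ S → a * b = 0 := by
    intro a b c d h
    by_contra hab
    have h1 := S.mul_mem h h
    rw [gU_mul] at h1
    have e1 : a + a = 0 := h2 a
    have e2 : b + b = 0 := h2 b
    have e3 : c + c + a * b = a * b := by rw [h2, zero_add]
    have e4 : d + d + a * c + a * c + a * a * b = a * a * b := by
      linear_combination h2 d + h2 (a * c)
    rw [e1, e2, e3, e4] at h1
    have ha : a ≠ 0 := fun h => hab (by rw [h, zero_mul])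
    have h3 := N2 _ _ _ h1 (Or.inr (by rw [mul_assoc]; exact mul_ne_zero ha hab))
    rw [zero_mul] at h3
    exact hab (mul_self_eq_zero.1 h3.symm)
  by_cases hA : ∃ a₀ b₀ c₀ d₀ : F, gU a₀ b₀ c₀ d₀ ∈ S ∧ a₀ ≠ 0
  · obtain ⟨a₀, b₀, c₀, d₀, h0, ha0⟩ := hA
    have hb0 : b₀ = 0 := (mul_eq_zero.1 (N3 _ _ _ _ h0)).resolve_left ha0
    subst hb0
    have hd0 : d₀ = 0 := N1 _ _ _ h0 ha0
    subst hd0
    have hb : ∀ a b c d : F, gU a b c d ∈ S → b = 0 := by
      intro a b c d h
      by_contra hb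
      have ha : a = 0 := (mul_eq_zero.1 (N3 _ _ _ _ h)).resolve_right hb
      subst ha
      have h1 := S.mul_mem h h0
      rw [gU_mul] at h1
      have h3 := N3 _ _ _ _ h1
      rw [zero_add, add_zero] at h3
      exact (mul_ne_zero ha0 hb) h3
    have hd : ∀ a c d : F, gU a 0 c d ∈ S → d = 0 := by
      intro a c d h
      by_cases ha : a = 0
      · subst ha
        by_contra hd
        have h3 := N2 _ _ _ h (Or.inr hd)
        rw [zero_mul] at h3
        have hc : c = 0 := mul_self_eq_zero.1 h3.symm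
        subst hc
        have h1 := S.mul_mem h0 h
        rw [gU_mul] at h1
        have e1 : (0 : F) + d + 0 * c₀ + a₀ * 0 + a₀ * 0 * 0 = d := by ring
        rw [e1, add_zero, add_zero] at h1
        exact hd (N1 _ _ _ h1 ha0)
      · exact N1 _ _ _ h ha
    have hc : ∀ a c : F, gU a 0 c 0 ∈ S → a₀ * c = a * c₀ := by
      intro a c h
      have h1 := S.mul_mem h0 h
      rw [gU_mul] at h1
      have e1 : (0 : F) + 0 = 0 := add_zero 0
      rw [e1] at h1
      have h3 := hd _ _ _ h1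
      linear_combination h3 - h2 (a * c₀)
    choose z hz using hex
    refine (Nat.card_le_card_of_injective (fun s : S => (z s).1) ?_).trans (le_of_eq Nat.card_eq_fintype_card)
    intro s t hst
    simp only at hst
    have hs := s.2
    have ht := t.2
    rw [hz s] at hs
    rw [hz t] at ht
    have e1 := hb _ _ _ _ hs
    have e2 := hb _ _ _ _ ht
    rw [e1] at hs
    rw [e2] at ht
    have e3 := hd _ _ _ hs
    have e4 := hd _ _ _ ht
    rw [e3] at hs
    rw [e4] at ht
    have e5 := hc _ _ hs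
    have e6 := hc _ _ ht
    apply Subtype.ext
    rw [hz s, hz t, e1, e2, e3, e4, hst]
    congr 1
    apply mul_left_cancel₀ ha0
    rw [e5, e6, hst]
  · have ha : ∀ a b c d : F, gU a b c d ∈ S → a = 0 := by
      intro a b c d h
      by_contra h1
      exact hA ⟨a, b, c, d, h, h1⟩
    have hmul : ∀ b c d b' c' d' : F, gU 0 b c d ∈ S → gU 0 b' c' d' ∈ S → gU 0 (b + b') (c + c') (d + d') ∈ S := by
      intro b c d b' c' d' h h'
      have h1 := S.mul_mem h h'
      rw [gU_mul] at h1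
      have e1 : c + c' + 0 * b' = c + c' := by ring
      have e2 : d + d' + 0 * c + 0 * c' + 0 * 0 * b' = d + d' := by ring
      rwa [e1, e2, add_zero] at h1
    by_cases hC : ∃ c₀ : F, gU 0 0 c₀ 0 ∈ S ∧ c₀ ≠ 0
    · obtain ⟨c₀, h0, hc0⟩ := hC
      have hbd : ∀ b c d : F, gU 0 b c d ∈ S → b = 0 ∧ d = 0 := by
        intro b c d h
        by_contra hcon
        have h3 : b ≠ 0 ∨ d ≠ 0 := by
          by_contra h4
          push Not at h4
          exact hcon h4
        have h4 := N2 _ _ _ h h3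
        have h5 := hmul _ _ _ _ _ _ h h0
        rw [add_zero, add_zero] at h5
        have h6 := N2 _ _ _ h5 h3
        have h7 : c₀ * c₀ = 0 := by linear_combination h4 - h6 - h2 (c * c₀)
        exact hc0 (mul_self_eq_zero.1 h7)
      choose z hz using hex
      refine (Nat.card_le_card_of_injective (fun s : S => (z s).2.2.1) ?_).trans (le_of_eq Nat.card_eq_fintype_card)
      intro s t hst
      simp only at hst
      have hs := s.2
      have ht := t.2
      rw [hz s] at hs
      rw [hz t] at ht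
      have e1 := ha _ _ _ _ hs
      have e2 := ha _ _ _ _ ht
      rw [e1] at hs
      rw [e2] at ht
      obtain ⟨e3, e5⟩ := hbd _ _ _ hs
      obtain ⟨e4, e6⟩ := hbd _ _ _ ht
      apply Subtype.ext
      rw [hz s, hz t, e1, e2, e3, e4, e5, e6, hst]
    · have hall : ∀ b c d : F, gU 0 b c d ∈ S → b * d = c * c := by
        intro b c d h
        by_cases hbd : b ≠ 0 ∨ d ≠ 0
        · exact N2 _ _ _ h hbd
        · push Not at hbd
          rw [hbd.1, hbd.2] at h
          have hc : c = 0 := by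
            by_contra hc
            exact hC ⟨c, h, hc⟩
          rw [hbd.1, hc, zero_mul, mul_zero]
      by_cases hB : ∃ b₀ c₀ d₀ : F, gU 0 b₀ c₀ d₀ ∈ S ∧ b₀ ≠ 0
      · obtain ⟨b₀, c₀, d₀, h0, hb0⟩ := hB
        choose z hz using hex
        refine (Nat.card_le_card_of_injective (fun s : S => (z s).2.1) ?_).trans (le_of_eq Nat.card_eq_fintype_card)
        intro s t hst
        simp only at hst
        have hs := s.2
        have ht := t.2
        rw [hz s] at hs
        rw [hz t] at ht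
        have e1 := ha _ _ _ _ hs
        have e2 := ha _ _ _ _ ht
        rw [e1] at hs
        rw [e2] at ht
        rw [← hst] at ht
        have h5 := hmul _ _ _ _ _ _ hs ht
        rw [h2] at h5
        have h6 := hall _ _ _ h5
        rw [zero_mul] at h6
        have h7 : (z s).2.2.1 + (z t).2.2.1 = 0 := mul_self_eq_zero.1 h6.symm
        have h8 := hmul _ _ _ _ _ _ h0 h5
        rw [add_zero, h7, add_zero] at h8
        have h9 := hall _ _ _ h8
        have h10 := hall _ _ _ h0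
        have h11 : b₀ * ((z s).2.2.2 + (z t).2.2.2) = 0 := by linear_combination h9 - h10
        have h12 := (mul_eq_zero.1 h11).resolve_left hb0
        apply Subtype.ext
        rw [hz s, hz t, e1, e2, ← hst]
        congr 1
        · linear_combination h7 - h2 (z t).2.2.1
        · linear_combination h12 - h2 (z t).2.2.2
      · have hb : ∀ b c d : F, gU 0 b c d ∈ S → b = 0 := by
          intro b c d h
          by_contra h1
          exact hB ⟨b, c, d, h, h1⟩
        choose z hz using hex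
        refine (Nat.card_le_card_of_injective (fun s : S => (z s).2.2.2) ?_).trans (le_of_eq Nat.card_eq_fintype_card)
        intro s t hst
        simp only at hst
        have hs := s.2
        have ht := t.2
        rw [hz s] at hs
        rw [hz t] at ht
        have e1 := ha _ _ _ _ hs
        have e2 := ha _ _ _ _ ht
        rw [e1] at hs
        rw [e2] at ht
        have e3 := hb _ _ _ hs
        have e4 := hb _ _ _ ht
        have h5 := hall _ _ _ hs
        have h6 := hall _ _ _ ht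
        rw [e3, zero_mul] at h5
        rw [e4, zero_mul] at h6
        apply Subtype.ext
        rw [hz s, hz t, e1, e2, e3, e4, mul_self_eq_zero.1 h5.symm, mul_self_eq_zero.1 h6.symm, hst]

theorem isC2_conj' {g k : GL I4 F} (hg : IsC2 g) (hk : k ∈ spGL 2 F) : IsC2 (k * g * k⁻¹) := by
  obtain ⟨h1, h2, ⟨v, hv⟩, w, w', hw⟩ := hg
  have key : ∀ x : I4 → F, ((k * g * k⁻¹ : GL I4 F) : Matrix I4 I4 F) *ᵥ ((k : Matrix I4 I4 F) *ᵥ x) =
      (k : Matrix I4 I4 F) *ᵥ ((g : Matrix I4 I4 F) *ᵥ x) := by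
    intro x
    rw [Matrix.mulVec_mulVec, Matrix.mulVec_mulVec, ← Units.val_mul, ← Units.val_mul]
    congr 2
    group
  refine ⟨(spGL 2 F).mul_mem ((spGL 2 F).mul_mem hk h1) ((spGL 2 F).inv_mem hk), ?_, ⟨(k : Matrix I4 I4 F) *ᵥ v, ?_⟩,
    (k : Matrix I4 I4 F) *ᵥ w, (k : Matrix I4 I4 F) *ᵥ w', ?_⟩
  · have : k * g * k⁻¹ * (k * g * k⁻¹) = k * (g * g) * k⁻¹ := by group
    rw [this, h2, mul_one, mul_inv_cancel]
  · rw [key, Cd.mem_spGL.1 hk]
    exact hv
  · rw [key, key, ← Matrix.mulVec_sub, ← Matrix.mulVec_sub]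
    rw [LinearIndependent.pair_iff] at hw ⊢
    intro s t hst
    apply hw
    rw [← Matrix.mulVec_smul, ← Matrix.mulVec_smul, ← Matrix.mulVec_add] at hst
    have h3 := congrArg (fun z => ((k⁻¹ : GL I4 F) : Matrix I4 I4 F) *ᵥ z) hst
    simp only [Matrix.mulVec_mulVec, Matrix.mulVec_zero] at h3
    rw [← Units.val_mul, inv_mul_cancel, Units.val_one, Matrix.one_mulVec] at h3
    exact h3

/-- **2-subgroups with more than `q` elements contain an involution of type `c₂`** -/
theorem exists_c2 {f : ℕ} (hf : 1 ≤ f) (hF : Fintype.card F = 2 ^ f) {S : Subgroup (GL I4 F)} (hS : S ≤ spGL 2 F)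
    {k : ℕ} (hk : 2 ^ k ∣ Nat.card S) (hq : 2 ^ f < 2 ^ k) : ∃ g ∈ S, IsC2 g := by
  classical
  by_contra hno
  push Not at hno
  have hfin : Finite (GL I4 F) := inferInstance
  have : Fact (Nat.Prime 2) := ⟨Nat.prime_two⟩
  -- a subgroup of order `2 ^ k`
  obtain ⟨P, hP⟩ := Sylow.exists_subgroup_card_pow_prime (G := S) 2 hk
  set R : Subgroup (GL I4 F) := P.map S.subtype with hR
  have hRS : R ≤ S := Subgroup.map_subtype_le P
  have hRc : Nat.card R = 2 ^ k := by rw [hR, Subgroup.card_map_of_injective S.subtype_injective, hP]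
  -- `UU` is a Sylow subgroup of `Sp_4`
  set U : Subgroup (spGL 2 F) := (UU F).subgroupOf (spGL 2 F) with hU
  have hUc : Nat.card U = 2 ^ (4 * f) := by
    rw [hU, Nat.card_congr (Subgroup.subgroupOfEquivOfLe UU_le).toEquiv, card_UU, hF, ← pow_mul, mul_comm]
  have hcard := card_sp (n := 2) (E := F)
  have hq1 : 1 < 2 ^ f := Nat.one_lt_pow (by omega) (by norm_num)
  have h3 : ∀ n, 1 ≤ n → ¬ 2 ∣ (2 ^ f) ^ n - 1 := by
    intro n hn h
    have h4 : 2 ∣ (2 ^ f) ^ n := (dvd_pow_self 2 (by omega : f ≠ 0)).trans (dvd_pow_self _ (by omega))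
    have h5 : 1 < (2 ^ f) ^ n := Nat.one_lt_pow (by omega) hq1
    omega
  have h4 : Nat.card (spGL 2 F) = 2 ^ (4 * f) * (((2 ^ f) ^ 2 - 1) * ((2 ^ f) ^ 4 - 1)) := by
    rw [hcard, hF]
    simp only [Finset.prod_range_succ, Finset.prod_range_zero, one_mul, zero_add, mul_one, Nat.reduceAdd, Nat.reduceMul]
    rw [← pow_mul]
    ring_nf
  have hidx : ¬ 2 ∣ U.index := by
    have h5 := U.card_mul_index
    rw [hUc, h4] at h5
    have h6 := Nat.eq_of_mul_eq_mul_left (by positivity) h5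
    rw [h6, Nat.prime_two.dvd_mul]
    rintro (h | h)
    · exact h3 2 (by norm_num) h
    · exact h3 4 (by norm_num) h
  have hUp : IsPGroup 2 U := IsPGroup.of_card hUc
  obtain ⟨Us, hUs⟩ : ∃ Us : Sylow 2 (spGL 2 F), Us.1 = U := ⟨hUp.toSylow hidx, rfl⟩
  have hRle : R ≤ spGL 2 F := hRS.trans hS
  have hRp : IsPGroup 2 (R.subgroupOf (spGL 2 F)) :=
    IsPGroup.of_card (n := k) (by rw [Nat.card_congr (Subgroup.subgroupOfEquivOfLe hRle).toEquiv, hRc])
  obtain ⟨Q, hQ⟩ := hRp.exists_le_sylow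
  obtain ⟨g, hg⟩ := MulAction.exists_smul_eq (spGL 2 F) Q Us
  -- the conjugate of `R`
  have hconj : ∀ x ∈ R, (g : GL I4 F) * x * (g : GL I4 F)⁻¹ ∈ UU F := by
    intro x hx
    have h5 : (⟨x, hRle hx⟩ : spGL 2 F) ∈ Q := hQ hx
    have h6 : g * ⟨x, hRle hx⟩ * g⁻¹ ∈ (g • Q : Sylow 2 (spGL 2 F)) := ⟨_, h5, rfl⟩
    rw [hg] at h6
    have h7 : g * ⟨x, hRle hx⟩ * g⁻¹ ∈ U := by rw [← hUs]; exact h6
    exact h7
  set R' : Subgroup (GL I4 F) := R.map (MulAut.conj (g : GL I4 F)).toMonoidHom with hR'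
  have hR'U : R' ≤ UU F := by
    rintro _ ⟨x, hx, rfl⟩
    exact hconj x hx
  have hR'c : Nat.card R' = 2 ^ k := by
    rw [hR', Subgroup.card_map_of_injective (MulAut.conj (g : GL I4 F)).injective, hRc]
  have h8 := card_le_of_UU hR'U (by
    rintro _ ⟨x, hx, rfl⟩ hc2
    apply hno x (hRS hx)
    have h9 := isC2_conj' hc2 ((spGL 2 F).inv_mem g.2)
    have h10 : (g : GL I4 F)⁻¹ * ((MulAut.conj (g : GL I4 F)).toMonoidHom x) * (g : GL I4 F)⁻¹⁻¹ = x := by
      change (g : GL I4 F)⁻¹ * ((g : GL I4 F) * x * (g : GL I4 F)⁻¹) * (g : GL I4 F)⁻¹⁻¹ = x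
      group
    rwa [h10] at h9)
  rw [hR'c, hF] at h8
  omega

end Cfsg.Agent.H402.Rg.EvA
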