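import Cfsg.Agent.H454.Reg.Tools
import Cfsg.Agent.H402.Rg.Dd

/-!
# S3691: exact factorizations with socle `PSp_4(2^f)`: context, involutions of type `c₂`
-/

set_option autoImplicit false
set_option linter.unusedSectionVars false

namespace Cfsg.Agent.H402.Rg

open Matrix Cfsg Cfsg.Geo
open scoped MatrixGroups Matrix

/-- exact factorization of `Sp_4(2^f)` -/
structure CtxE (F : Type) [Field F] [Fintype F] (f : ℕ) (X Y : Subgroup (GL (Fin 2 ⊕ Fin 2) F)) (e : ℕ) : Prop where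
  leX : X ≤ spGL 2 F
  leY : Y ≤ spGL 2 F
  neX : X ≠ spGL 2 F
  neY : Y ≠ spGL 2 F
  nc : ∀ x ∈ X, ∀ g ∈ spGL 2 F, g * x * g⁻¹ ∈ Y → x = 1
  card : Nat.card X * Nat.card Y * e = Nat.card (spGL 2 F)
  he : e ∣ 2 * f
  minX : Nat.card X * ((Fintype.card F ^ 4 - 1) / (Fintype.card F - 1)) ≤ Nat.card (spGL 2 F)
  minY : Nat.card Y * ((Fintype.card F ^ 4 - 1) / (Fintype.card F - 1)) ≤ Nat.card (spGL 2 F)

variable {F : Type} [Field F] [Fintype F]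

theorem CtxE.symm {f e : ℕ} {X Y : Subgroup (GL (Fin 2 ⊕ Fin 2) F)} (h : CtxE F f X Y e) : CtxE F f Y X e where
  leX := h.leY
  leY := h.leX
  neX := h.neY
  neY := h.neX
  nc := by
    intro x hx g hg hy
    have h1 := h.nc _ hy g⁻¹ ((spGL 2 F).inv_mem hg) (by
      have e : g⁻¹ * (g * x * g⁻¹) * g⁻¹⁻¹ = x := by group
      rwa [e])
    have e : x = g⁻¹ * (g * x * g⁻¹) * g := by group
    rw [e, h1, mul_one, inv_mul_cancel]
  card := by rw [mul_comm (Nat.card Y)]; exact h.card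
  he := h.he
  minX := h.minY
  minY := h.minX

/-- involutions of `Sp_4(2^f)` of type `c₂`: `(x v, v) ≠ 0` for some `v`, and `x - 1` has rank at least two -/
def IsC2 (g : GL (Fin 2 ⊕ Fin 2) F) : Prop :=
  g ∈ spGL 2 F ∧ g * g = 1 ∧ (∃ v, sympForm 2 F ((g : Matrix (Fin 2 ⊕ Fin 2) (Fin 2 ⊕ Fin 2) F) *ᵥ v) v ≠ 0) ∧
    ∃ v w, LinearIndependent F ![(g : Matrix (Fin 2 ⊕ Fin 2) (Fin 2 ⊕ Fin 2) F) *ᵥ v - v,
      (g : Matrix (Fin 2 ⊕ Fin 2) (Fin 2 ⊕ Fin 2) F) *ᵥ w - w]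

end Cfsg.Agent.H402.Rg
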