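import Cfsg.Agent.H402.Rg.EvB
import Cfsg.Agent.H402.Rg.Ctx
import Cfsg.Agent.H305.Rg.SzFour
import Cfsg.Agent.H292.Rd.OFour

/-!
# Subgroups of `Sp_4(2^f)` containing a primitive prime divisor of `2^(4f) - 1`
-/

set_option autoImplicit false
set_option linter.unusedSectionVars false

namespace Cfsg.Agent.H402.Rg.EvA

open Matrix Module Cfsg Cfsg.Geo Cfsg.Agent.H402.Rg
open Cfsg.Agent.H262.El Cfsg.Agent.H876 Cfsg.Agent.H931 Cfsg.Agent.ClassicalGeometry.SympBasic
open scoped MatrixGroups Matrix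
open Cfsg.Agent.H884.El (PP)

local notation "I4" => (Fin 2 ⊕ Fin 2)

variable {F : Type} [Field F] [Fintype F] [CharP F 2]

theorem two_part {f A k : ℕ} (hf : 1 ≤ f) (h : 2 ^ k ∣ 2 * (2 ^ f) ^ 2 * A) (hA : ¬ 2 ∣ A) : 2 ^ k ≤ 2 * (2 ^ f) ^ 2 := by
  have hc : Nat.Coprime (2 ^ k) A := Nat.Coprime.pow_left _ ((Nat.Prime.coprime_iff_not_dvd Nat.prime_two).2 hA)
  exact Nat.le_of_dvd (by positivity) (hc.dvd_of_dvd_mul_right h)

theorem odd_pred {f n : ℕ} (hf : 1 ≤ f) (hn : 1 ≤ n) : ¬ 2 ∣ (2 ^ f) ^ n - 1 := by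
  intro h
  have h4 : 2 ∣ (2 ^ f) ^ n := (dvd_pow_self 2 (by omega : f ≠ 0)).trans (dvd_pow_self _ (by omega))
  have h5 : 1 < (2 ^ f) ^ n := Nat.one_lt_pow (by omega) (Nat.one_lt_pow (by omega) (by norm_num))
  omega

/-- **the list** -/
theorem list_even {f : ℕ} (hf : 11 ≤ f) (hF : Fintype.card F = 2 ^ f) {X : Subgroup (GL I4 F)} (hX : X ≤ spGL 2 F)
    (hne : X ≠ spGL 2 F) {s : ℕ} (hs : PP 2 (2 * (2 * f)) s) (hsX : s ∣ Nat.card X) :
    (∀ k, 2 ^ k ∣ Nat.card X → 2 ^ k ≤ 2 * (2 ^ f) ^ 2) ∧ ((2 ^ f) ^ 2 ∣ Nat.card X ∨ Nat.card X ≤ f * (2 * (2 ^ f) ^ 2)) := by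
  classical
  have hι : Fintype.card I4 = 4 := by simp
  have : Fact (Nat.Prime 2) := ⟨Nat.prime_two⟩
  have h4 : 4 ≤ Fintype.card F := by
    rw [hF]
    calc 4 = 2 ^ 2 := by norm_num
      _ ≤ 2 ^ f := Nat.pow_le_pow_right (by norm_num) (by omega)
  have hev : ¬ Odd (Fintype.card F) := by
    rw [hF, Nat.not_odd_iff_even]
    exact Nat.even_pow.2 ⟨even_two, by omega⟩
  have hq1 : 1 ≤ (2 ^ f) ^ 2 := Nat.one_le_pow _ _ (by positivity)
  obtain ⟨N, hmax, hXN⟩ := exists_max hX hne
  -- the prime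
  have hsp : s.Prime := hs.prime
  have hdvd : ∀ j, s ∣ 2 ^ j - 1 ↔ 2 * (2 * f) ∣ j := fun j => hs.dvd_iff (by norm_num) j
  have hs' : PP 2 (f * 4) s := by
    have h1 : f * 4 = 2 * (2 * f) := by ring
    rw [h1]; exact hs
  have hsq : PP (Fintype.card F) 4 s := by
    rw [hF]; exact Cfsg.Agent.H884.El.PP.of_pow hs' (by omega)
  have hod : Od (Fintype.card F) 4 s := ⟨hsp, hsq.ord, hsq.not_dvd (by norm_num)⟩
  have hs2 : s ≠ 2 := by
    rintro rfl
    have h1 := (hdvd (2 * (2 * f))).2 dvd_rfl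
    have h2 : 2 ∣ 2 ^ (2 * (2 * f)) := dvd_pow_self 2 (by omega)
    have h3 : 1 < 2 ^ (2 * (2 * f)) := Nat.one_lt_pow (by omega) (by norm_num)
    omega
  have hs2' : 2 < s := lt_of_le_of_ne hsp.two_le (Ne.symm hs2)
  have hsN : s ∣ Nat.card N := hsX.trans (Subgroup.card_dvd_of_le hXN)
  have hsf := Fact.mk hsp
  obtain ⟨w, hw⟩ := exists_prime_orderOf_dvd_card' (G := N) s hsN
  obtain ⟨y, hyd⟩ : ∃ y : GL I4 F, y = (w : GL I4 F) := ⟨_, rfl⟩
  have hyN : y ∈ N := hyd ▸ w.2
  have hys : y ^ s = 1 := by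
    rw [hyd, ← Subgroup.coe_pow, ← hw, pow_orderOf_eq_one]; rfl
  have hy1 : y ≠ 1 := by
    intro h
    have h1 : w = 1 := Subtype.ext (by rw [← hyd, h]; rfl)
    rw [h1, orderOf_one] at hw
    exact hsp.one_lt.ne hw
  have hirr := fun W hW => irr_of_od (by rw [hι]; exact hod) hys hy1 W hW
  rcases Cfsg.Agent.S5790.result hev h4 N hmax with h | h | h | h | h | h
  · exfalso
    obtain ⟨W, hW0, hW, hNW⟩ := h
    rw [hNW] at hyN
    exact not_mem_subspaceStabilizer_of_irr hirr hW0 (totallySingular_ne_top (by norm_num) hW) hyN.1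
  · exfalso
    obtain ⟨D, hD', hND⟩ := h
    have hD := hD'.decomp
    rw [hND] at hyN
    have h1 := fixes_of_decomposition hD hyN.1 hsp hs2' hys 0
    rcases hirr _ h1 with h2 | h2
    · exact Cfsg.Agent.H918.decomp_ne_bot hD _ h2
    · have h3 := hD.finrank_eq 0
      rw [h2, finrank_top, Module.finrank_fintype_fun_eq_card, hι] at h3
      omega
  · -- the field extension group
    obtain ⟨K, hK, hsa, halt, hNK⟩ := h
    have hXK : X ≤ subalgebraNormalizer K := by
      intro x hx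
      have h1 := hXN hx
      rw [hNK] at h1
      exact h1.1
    constructor
    · intro k hk
      have h1 := norm_dvd (n := 1) (s := 2) (m := 2) (by norm_num) (by norm_num) rfl hK hsa halt hX hXK
      rw [hF] at h1
      simp only [Finset.prod_range_one, zero_add, mul_one, one_pow, pow_one] at h1
      have h2 := hk.trans h1
      rw [← mul_assoc] at h2
      refine two_part (by omega) h2 ?_
      rw [← pow_mul]
      exact odd_pred (by omega) (by norm_num)
    · rcases dD (p := 2) hF (by omega) h4 (by norm_num) hs hK hsa halt hX hXK hsX with ⟨E, iE, iE', iA, c, hc1, hc2, hc3⟩ | h1 | h1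
      · left
        have h2 : (spGL 1 E).map c.Psi ≤ X := by
          rintro _ ⟨A, hA, rfl⟩
          exact hc3 A hA
        have h3 := Subgroup.card_dvd_of_le h2
        rw [c.card_spGL, card_sp1, hc2, hF] at h3
        exact (dvd_mul_right _ _).trans h3
      · right
        refine h1.trans ?_
        rw [hF]
        nlinarith
      · right
        refine h1.trans ?_
        have h2 : 1 * (2 * (2 ^ 11) ^ 2) ≤ f * (2 * (2 ^ f) ^ 2) :=
          Nat.mul_le_mul (by omega) (Nat.mul_le_mul_left _ (Nat.pow_le_pow_left (Nat.pow_le_pow_right (by norm_num) hf) 2))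
        omega
  · exfalso
    obtain ⟨F₀, t, P, ζ, ht, hcard, -, -, hNF⟩ := h
    rw [hNF] at hyN
    apply hy1
    obtain ⟨f₀, hf₀1, hf₀, hfs⟩ : ∃ f₀ : ℕ, 1 ≤ f₀ ∧ Nat.card F₀ = 2 ^ f₀ ∧ f = f₀ * t := by
      have h1 : Nat.card F₀ ∣ 2 ^ f := by
        rw [← hF, hcard]
        exact dvd_pow_self _ ht.ne_zero
      obtain ⟨f₀, -, hf₀⟩ := (Nat.dvd_prime_pow Nat.prime_two).1 h1
      refine ⟨f₀, ?_, hf₀, ?_⟩
      · rcases Nat.eq_zero_or_pos f₀ with h0 | h0
        · exfalso
          rw [h0, pow_zero] at hf₀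
          rw [hf₀, one_pow] at hcard
          omega
        · exact h0
      · rw [hF, hf₀, ← pow_mul] at hcard
        exact Nat.pow_right_injective le_rfl hcard
    have ht2 := ht.two_le
    refine eq_one_of_mem_subfieldSubgroup hyN.1 hsp hys ?_ ?_ ?_
    · intro h
      rw [hf₀] at h
      exact hs2 ((Nat.prime_dvd_prime_iff_eq hsp Nat.prime_two).1 (hsp.dvd_of_dvd_pow h))
    · rw [hF, hdvd]
      intro h
      have := Nat.le_of_dvd (by omega) h
      omega
    · intro j hj1 hj2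
      rw [hf₀, ← pow_mul, hdvd]
      intro h
      have h1 := Nat.le_of_dvd (Nat.mul_pos hf₀1 hj1) h
      rw [hι] at hj2
      have h2 : f₀ * j ≤ f₀ * 4 := Nat.mul_le_mul_left _ hj2
      have h3 : f₀ < f := by
        rw [hfs]
        nlinarith
      omega
  · obtain ⟨Q, hQ, hpol, hNQ⟩ := h
    obtain ⟨Q', hQ', hnd⟩ := Cfsg.Agent.H883.Bridge.exists_quadraticForm hQ
    have hle : N ≤ isometryGroup F (⇑Q') := by
      rw [hNQ, hQ']
      rintro g ⟨⟨c, hc⟩, hg⟩
      have hc1 : (c : F) = 1 := by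
        have hne : ∃ u v, sympForm 2 F u v ≠ 0 := by
          by_contra hcon
          push Not at hcon
          have hv0 : (Pi.single (Sum.inl 0) 1 : I4 → F) ≠ 0 := by
            intro h0
            have := congrFun h0 (Sum.inl 0)
            simp at this
          exact hv0 (eq_zero_of_forall_sympForm_left fun w => hcon w _)
        obtain ⟨u, v, huv⟩ := hne
        have h1 : sympForm 2 F ((g : Matrix I4 I4 F) *ᵥ u) ((g : Matrix I4 I4 F) *ᵥ v) = (c : F) * sympForm 2 F u v := by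
          rw [← hpol, ← hpol, QuadraticMap.polar, QuadraticMap.polar, ← Matrix.mulVec_add, hc, hc, hc]
          ring
        rw [mem_spGL_iff.1 hg] at h1
        have h2 : ((c : F) - 1) * sympForm 2 F u v = 0 := by linear_combination -h1
        exact sub_eq_zero.1 ((mul_eq_zero.1 h2).resolve_right huv)
      intro v _
      have h1 := hc v
      rw [hc1, one_mul] at h1
      exact h1
    have hdv : Nat.card N ∣ Nat.card (isometryGroup F (⇑Q')) := Subgroup.card_dvd_of_le hle
    by_cases hP : Cfsg.Agent.H955.IsPlus Q'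
    · exfalso
      rw [Cfsg.Agent.H957.card_isometryGroup_plus Q' hnd (m := 2) (by norm_num) hι hP, hF] at hdv
      have h1 := hsN.trans hdv
      simp only [Nat.reduceMul, Nat.reduceSub, Finset.range_one, Finset.prod_singleton, zero_add, mul_one] at h1
      have hs4 : ¬ s ∣ (2 ^ f) ^ 2 - 1 := by
        rw [← pow_mul, hdvd]
        intro h
        have := Nat.le_of_dvd (by omega) h
        omega
      have hs22 : ¬ s ∣ 2 := fun h => hs2 ((Nat.prime_dvd_prime_iff_eq hsp Nat.prime_two).1 h)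
      rcases hsp.dvd_mul.1 h1 with h1 | h1
      · rcases hsp.dvd_mul.1 h1 with h1 | h1
        · rcases hsp.dvd_mul.1 h1 with h1 | h1
          · exact hs22 h1
          · exact hs22 (hsp.dvd_of_dvd_pow (hsp.dvd_of_dvd_pow h1))
        · exact hs4 h1
      · exact hs4 h1
    · constructor
      · intro k hk
        rw [Cfsg.Agent.H957.card_isometryGroup_minus Q' hnd (m := 2) (by norm_num) hι hP, hF] at hdv
        simp only [Nat.reduceMul, Nat.reduceSub, Finset.range_one, Finset.prod_singleton, zero_add, mul_one] at hdv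
        have h1 := hk.trans ((Subgroup.card_dvd_of_le hXN).trans hdv)
        rw [mul_assoc] at h1
        refine two_part (by omega) h1 ?_
        rw [Nat.prime_two.dvd_mul]
        rintro (h2 | h2)
        · have h3 : 2 ∣ (2 ^ f) ^ 2 := (dvd_pow_self 2 (by omega : f ≠ 0)).trans (dvd_pow_self _ (by norm_num))
          omega
        · exact odd_pred (by omega) (by norm_num) h2
      · rcases Cfsg.Agent.H292.Rd.o4m (by omega) hF Q' hnd hP hs (hXN.trans hle) hsX with h1 | h1
        · exact Or.inl h1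
        · right
          refine h1.trans ?_
          nlinarith
  · obtain ⟨h1, h2⟩ := Cfsg.Agent.H305.Rg.sz4 hf hF hmax h hs hXN hsX
    exact ⟨fun k hk => (h1 k hk).trans (by omega), h2⟩

end Cfsg.Agent.H402.Rg.EvA
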