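import Cfsg.Agent.H402.Rg.EvB
import Cfsg.Agent.Lib.Zsigmondy

/-!
# No exact factorization of `Sp_4(2^f)`, `f ≥ 11`
-/

set_option autoImplicit false
set_option linter.unusedSectionVars false

namespace Cfsg.Agent.H402.Rg.EvA

open Matrix Module Cfsg Cfsg.Geo Cfsg.Agent.H402.Rg
open scoped MatrixGroups Matrix
open Cfsg.Agent.H884.El (PP)

local notation "I4" => (Fin 2 ⊕ Fin 2)

variable {F : Type} [Field F] [Fintype F] [CharP F 2]

/-- the conclusion of the list -/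
def ListE (F : Type) [Field F] [Fintype F] (f : ℕ) : Prop :=
  ∀ {X : Subgroup (GL (Fin 2 ⊕ Fin 2) F)}, X ≤ spGL 2 F → X ≠ spGL 2 F → ∀ {s : ℕ}, PP 2 (2 * (2 * f)) s → s ∣ Nat.card X →
    (∀ k, 2 ^ k ∣ Nat.card X → 2 ^ k ≤ 2 * (2 ^ f) ^ 2) ∧ ((2 ^ f) ^ 2 ∣ Nat.card X ∨ Nat.card X ≤ f * (2 * (2 ^ f) ^ 2))

theorem card_four {f : ℕ} (hF : Fintype.card F = 2 ^ f) :
    Nat.card (spGL 2 F) = 2 ^ (4 * f) * (((2 ^ f) ^ 2 - 1) * ((2 ^ f) ^ 4 - 1)) := by
  rw [card_sp (n := 2) (E := F), hF]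
  simp only [Finset.prod_range_succ, Finset.prod_range_zero, one_mul, zero_add, mul_one, Nat.reduceAdd, Nat.reduceMul]
  rw [← pow_mul]
  ring_nf

theorem sq_small {f : ℕ} (hf : 11 ≤ f) : 4 * (f * f) < 2 ^ f := by
  induction f, hf using Nat.le_induction with
  | base => norm_num
  | succ k hk ih =>
    rw [pow_succ]
    nlinarith

/-- **the even case** -/
theorem no_ctx_aux {f : ℕ} (hf : 11 ≤ f) (hF : Fintype.card F = 2 ^ f) (hL : ListE F f)
    (hJ : ∀ {g h : GL I4 F}, IsC2 g → IsC2 h → ∃ k ∈ spGL 2 F, k * g * k⁻¹ = h) {X Y : Subgroup (GL I4 F)} {e : ℕ}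
    (h : CtxE F f X Y e) {r : ℕ} (hr : PP 2 (2 * (2 * f)) r) (hrX : r ∣ Nat.card X) : False := by
  have hfin : Finite (GL I4 F) := inferInstance
  have hcard := h.card
  rw [card_four hF] at hcard
  have hX0 : Nat.card X ≠ 0 := Nat.card_pos.ne'
  have hY0 : Nat.card Y ≠ 0 := Nat.card_pos.ne'
  have hq1 : 1 < 2 ^ f := Nat.one_lt_pow (by omega) (by norm_num)
  have hodd : ∀ n, 1 ≤ n → ¬ 2 ∣ (2 ^ f) ^ n - 1 := by
    intro n hn h
    have h4 : 2 ∣ (2 ^ f) ^ n := (dvd_pow_self 2 (by omega : f ≠ 0)).trans (dvd_pow_self _ (by omega))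
    have h5 : 1 < (2 ^ f) ^ n := Nat.one_lt_pow (by omega) hq1
    omega
  have hM : ¬ 2 ∣ ((2 ^ f) ^ 2 - 1) * ((2 ^ f) ^ 4 - 1) := by
    rw [Nat.prime_two.dvd_mul]
    rintro (h | h)
    · exact hodd 2 (by norm_num) h
    · exact hodd 4 (by norm_num) h
  have hM0 : ((2 ^ f) ^ 2 - 1) * ((2 ^ f) ^ 4 - 1) ≠ 0 := fun h0 => hM (h0 ▸ dvd_zero 2)
  have he0 : e ≠ 0 := by
    rintro rfl
    rw [mul_zero] at hcard
    have : 0 < 2 ^ (4 * f) * (((2 ^ f) ^ 2 - 1) * ((2 ^ f) ^ 4 - 1)) := Nat.mul_pos (by positivity) (Nat.pos_of_ne_zero hM0)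
    omega
  obtain ⟨h1, h2⟩ := hL h.leX h.neX hr hrX
  -- the 2-parts
  have hval : (Nat.card X).factorization 2 + (Nat.card Y).factorization 2 + e.factorization 2 = 4 * f := by
    have h3 : (Nat.card X * Nat.card Y * e).factorization 2 =
      (2 ^ (4 * f) * (((2 ^ f) ^ 2 - 1) * ((2 ^ f) ^ 4 - 1))).factorization 2 := by rw [hcard]
    rw [Nat.factorization_mul (mul_ne_zero hX0 hY0) he0, Nat.factorization_mul hX0 hY0,
      Nat.factorization_mul (by positivity) hM0, Nat.Prime.factorization_pow Nat.prime_two] at h3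
    simp only [Finsupp.add_apply, Finsupp.single_eq_same, Nat.factorization_eq_zero_of_not_dvd hM, add_zero] at h3
    exact h3
  have hvX : (Nat.card X).factorization 2 ≤ 2 * f + 1 := by
    have h3 := h1 _ (Nat.ordProj_dvd (Nat.card X) 2)
    rw [← pow_mul, mul_comm f 2, ← pow_succ'] at h3
    exact (Nat.pow_le_pow_iff_right (by norm_num)).1 h3
  have hve : e.factorization 2 + 2 < f := by
    have h3 : 2 ^ e.factorization 2 ≤ 2 * f := Nat.le_of_dvd (by omega) ((Nat.ordProj_dvd e 2).trans h.he)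
    have h4 := sq_small hf
    have h5 : 2 ^ (e.factorization 2 + 2) < 2 ^ f := by
      rw [pow_add]
      calc 2 ^ e.factorization 2 * 2 ^ 2 ≤ 2 * f * 2 ^ 2 := Nat.mul_le_mul_right _ h3
        _ ≤ 4 * (f * f) := by nlinarith
        _ < 2 ^ f := h4
    exact (Nat.pow_lt_pow_iff_right (by norm_num)).1 h5
  have hvY : f < (Nat.card Y).factorization 2 := by omega
  -- an involution in `Y`
  obtain ⟨y, hyY, hy⟩ := exists_c2 (by omega) hF h.leY (Nat.ordProj_dvd (Nat.card Y) 2) (Nat.pow_lt_pow_right (by norm_num) hvY)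
  -- an involution in `X`
  have hXc : ∃ x ∈ X, IsC2 x := by
    rcases h2 with h2 | h2
    · refine exists_c2 (by omega) hF h.leX (k := 2 * f) ?_ (Nat.pow_lt_pow_right (by norm_num) (by omega))
      rw [mul_comm, pow_mul]
      exact h2
    · exfalso
      have h3 := h.minY
      rw [← h.card, hF] at h3
      have h4 : Nat.card Y * (((2 ^ f) ^ 4 - 1) / (2 ^ f - 1)) ≤ Nat.card Y * (Nat.card X * e) := by
        calc Nat.card Y * (((2 ^ f) ^ 4 - 1) / (2 ^ f - 1)) ≤ Nat.card X * Nat.card Y * e := h3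
          _ = Nat.card Y * (Nat.card X * e) := by ring
      have h5 := Nat.le_of_mul_le_mul_left h4 (Nat.pos_of_ne_zero hY0)
      have h6 : (2 ^ f) ^ 3 < ((2 ^ f) ^ 4 - 1) / (2 ^ f - 1) := by
        obtain ⟨c, hc⟩ : ∃ c, 2 ^ f = c + 1 := ⟨_, (Nat.sub_add_cancel hq1.le).symm⟩
        have hc0 : 0 < c := by omega
        rw [hc, Nat.add_sub_cancel]
        have h7 : (c + 1) ^ 4 - 1 = ((c + 1) ^ 3 + (c + 1) ^ 2 + (c + 1) + 1) * c := by
          have : (c + 1) ^ 4 = ((c + 1) ^ 3 + (c + 1) ^ 2 + (c + 1) + 1) * c + 1 := by ring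
          rw [this, Nat.add_sub_cancel]
        rw [h7, Nat.mul_div_cancel _ hc0]
        have : 0 < (c + 1) ^ 2 := by positivity
        omega
      have h7 : e ≤ 2 * f := Nat.le_of_dvd (by omega) h.he
      have h8 : Nat.card X * e ≤ f * (2 * (2 ^ f) ^ 2) * (2 * f) := Nat.mul_le_mul h2 h7
      have h9 := sq_small hf
      have h10 : f * (2 * (2 ^ f) ^ 2) * (2 * f) ≤ (2 ^ f) ^ 3 := by
        calc f * (2 * (2 ^ f) ^ 2) * (2 * f) = (4 * (f * f)) * (2 ^ f) ^ 2 := by ring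
          _ ≤ 2 ^ f * (2 ^ f) ^ 2 := Nat.mul_le_mul_right _ h9.le
          _ = _ := by ring
      omega
  obtain ⟨x, hxX, hx⟩ := hXc
  obtain ⟨k, hk, hkx⟩ := hJ hx hy
  have hx1 := h.nc x hxX k hk (by rw [hkx]; exact hyY)
  obtain ⟨-, -, ⟨v, hv⟩, -⟩ := hx
  rw [hx1, Units.val_one, Matrix.one_mulVec, Cfsg.Agent.ClassicalGeometry.SympBasic.sympForm_self] at hv
  exact hv rfl

theorem no_ctx {f : ℕ} (hf : 11 ≤ f) (hF : Fintype.card F = 2 ^ f) (hL : ListE F f)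
    (hJ : ∀ {g h : GL I4 F}, IsC2 g → IsC2 h → ∃ k ∈ spGL 2 F, k * g * k⁻¹ = h) {X Y : Subgroup (GL I4 F)} {e : ℕ}
    (h : CtxE F f X Y e) : False := by
  obtain ⟨r, hr, hor⟩ := Cfsg.Agent.Lib.Zsigmondy.exists_prime_orderOf (a := 2) (n := 2 * (2 * f)) le_rfl (by omega) (by omega) (by omega)
  have hPP : PP 2 (2 * (2 * f)) r := ⟨hr, hor⟩
  have hrd : r ∣ Nat.card (spGL 2 F) := by
    rw [card_four hF]
    refine Dvd.dvd.mul_left (Dvd.dvd.mul_left ?_ _) _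
    rw [← pow_mul, hPP.dvd_iff (by norm_num)]
    exact ⟨1, by ring⟩
  rw [← h.card] at hrd
  rcases hr.dvd_mul.1 hrd with h1 | h1
  · rcases hr.dvd_mul.1 h1 with h2 | h2
    · exact no_ctx_aux hf hF hL hJ h hPP h2
    · exact no_ctx_aux hf hF hL hJ h.symm hPP h2
  · have h2 := Nat.le_of_dvd (by omega) (h1.trans h.he)
    have h3 := hPP.lt (by omega)
    omega

end Cfsg.Agent.H402.Rg.EvA
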