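import Cfsg.Agent.H930.SpOrdC

/-!
# The order of `GU₃(q).2 < Sp₆(q)` (after helper930's `SpOrdC`)
-/

set_option autoImplicit false
set_option linter.unusedSectionVars false

namespace Cfsg.Agent.H402.Rg.Gu

open Module Matrix Cfsg Cfsg.Geo
open scoped MatrixGroups Matrix
open Cfsg.Agent.ClassicalGeometry.SympBasic
open Cfsg.Agent.H879.ExtField (modOf)
open Cfsg.Agent.LieClassical.HermBasic
open Cfsg.Agent.H930.SpOrd

abbrev I6 : Type := Fin 3 ⊕ Fin 3

theorem card_I6 : Fintype.card I6 = 6 := by decide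

theorem card_GU3 {K : Type*} [Field K] [Fintype K] {q : ℕ} (hK : Fintype.card K = q ^ 2) :
    Nat.card (GU 3 K q) = q ^ 3 * (q + 1) * (q ^ 2 - 1) * (q ^ 3 + 1) := by
  have h1 := Cfsg.Agent.S0277.result hK 3
  rw [Finset.prod_range_succ, Finset.prod_range_succ, Finset.prod_range_succ, Finset.prod_range_zero] at h1
  rw [h1]
  simp
  ring

variable {F : Type*} [Field F] [Fintype F]

theorem card_six_herm (h2 : (2 : F) ≠ 0) {E : Type*} [Field E] [Algebra F E] [FiniteDimensional F E]
    (hfr : finrank F E = 2) (ρ : E →ₐ[F] Matrix I6 I6 F) {κ : E} (hκ : ∀ c : F, κ ≠ algebraMap F E c)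
    (hadj : ∀ x y, sympForm 3 F (ρ κ *ᵥ x) y = - sympForm 3 F x (ρ κ *ᵥ y)) :
    Nat.card ↥(subalgebraNormalizer ρ.range ⊓ spGL 3 F) =
      2 * (Nat.card F ^ 3 * (Nat.card F + 1) * (Nat.card F ^ 2 - 1) * (Nat.card F ^ 3 + 1)) := by
  have hfin : Finite E := Module.finite_of_finite F
  let _ : Fintype E := Fintype.ofFinite E
  set q := Nat.card F with hq
  have hcE : Fintype.card E = q ^ 2 := by
    rw [Module.card_eq_pow_finrank (K := F) (V := E), hfr, hq, Nat.card_eq_fintype_card]
  have hpowF : ∀ c : F, c ^ q = c := by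
    intro c
    rw [hq, Nat.card_eq_fintype_card]
    exact FiniteField.pow_card c
  -- E = F + F κ
  have hspan : ∀ z : E, ∃ a b : F, z = algebraMap F E a + algebraMap F E b * κ := by
    have hli : LinearIndependent F ![(1 : E), κ] := by
      rw [LinearIndependent.pair_iff]
      intro s t hst
      rw [Algebra.smul_def, Algebra.smul_def, mul_one] at hst
      have h3 := two_coord hκ (a := s) (b := t) (a' := 0) (b' := 0) (by rw [hst]; simp)
      exact h3
    have hsp := hli.span_eq_top_of_card_eq_finrank (by rw [hfr]; simp)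
    intro z
    have hz : z ∈ Submodule.span F (Set.range ![(1 : E), κ]) := by rw [hsp]; trivial
    rw [Submodule.mem_span_range_iff_exists_fun] at hz
    obtain ⟨c, hc⟩ := hz
    rw [Fin.sum_univ_two] at hc
    refine ⟨c 0, c 1, ?_⟩
    rw [← hc, Algebra.smul_def, Algebra.smul_def]
    simp
  have hρalg : ∀ (c : F) (v : I6 → F), ρ (algebraMap F E c) *ᵥ v = c • v := by
    intro c v
    rw [AlgHom.commutes, Algebra.algebraMap_eq_smul_one, smul_mulVec, one_mulVec]
  -- κ² ∈ F
  obtain ⟨d, hd⟩ : ∃ d : F, κ * κ = algebraMap F E d := by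
    obtain ⟨d, b, hdb⟩ := hspan (κ * κ)
    have hb : b = 0 := by
      by_contra hb
      have h3 : ∀ x y, sympForm 3 F x (ρ κ *ᵥ y) = 0 := by
        intro x y
        have h4 : sympForm 3 F (ρ (κ * κ) *ᵥ x) y = sympForm 3 F x (ρ (κ * κ) *ᵥ y) := by
          rw [map_mul, ← mulVec_mulVec, ← mulVec_mulVec, hadj, hadj, neg_neg]
        rw [hdb, map_add, map_mul, add_mulVec, add_mulVec, ← mulVec_mulVec, ← mulVec_mulVec, hρalg, hρalg, hρalg,
          hρalg, sympForm_add_left, sympForm_add_right, sympForm_smul_left, sympForm_smul_left,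
          sympForm_smul_right, sympForm_smul_right, hadj] at h4
        have h5 : 2 * (b * sympForm 3 F x (ρ κ *ᵥ y)) = 0 := by linear_combination -h4
        exact (mul_eq_zero.1 ((mul_eq_zero.1 h5).resolve_left h2)).resolve_left hb
      apply hκ 0
      rw [map_zero]
      have h6 : ρ κ = 0 := by
        apply Matrix.mulVec_injective
        funext v
        show ρ κ *ᵥ v = (0 : Matrix I6 I6 F) *ᵥ v
        rw [zero_mulVec]
        exact eq_zero_of_forall_sympForm_left fun w => h3 w v
      apply ρ.toRingHom.injective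
      show ρ κ = ρ 0
      rw [h6, map_zero]
    refine ⟨d, ?_⟩
    rw [hdb, hb, map_zero, zero_mul, add_zero]
  have hκ0 : κ ≠ 0 := by
    intro h
    apply hκ 0
    rw [h, map_zero]
  have h2E : (2 : E) ≠ 0 := by
    intro h
    apply h2
    apply (algebraMap F E).injective
    rw [map_zero, map_ofNat, h]
  have hκq : κ ^ q = -κ := by
    have h3 : κ ^ q * κ ^ q = κ * κ := by
      rw [← mul_pow, hd, ← map_pow, hpowF]
    have h4 : (κ ^ q - κ) * (κ ^ q + κ) = 0 := by linear_combination h3
    rcases mul_eq_zero.1 h4 with h5 | h5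
    · exfalso
      have h6 : κ ^ Fintype.card F = κ := by
        rw [← Nat.card_eq_fintype_card, ← hq]
        exact sub_eq_zero.1 h5
      obtain ⟨c, hc⟩ := Cfsg.Agent.H930.Prm.exists_alg_of_pow h6
      exact hκ c hc
    · exact eq_neg_of_add_eq_zero_left h5
  let instM : Module E (I6 → F) := modOf ρ
  have hsmul : ∀ (k : E) (v : I6 → F), k • v = ρ k *ᵥ v := fun _ _ => rfl
  have instT : IsScalarTower F E (I6 → F) := by
    refine ⟨fun c k v => ?_⟩
    rw [hsmul, hsmul, map_smul, smul_mulVec]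
  have hsmulF : ∀ (c : F) (v : I6 → F), algebraMap F E c • v = c • v := fun c v => hρalg c v
  -- the hermitian form
  let H : (I6 → F) → (I6 → F) → E := fun x y =>
    algebraMap F E (sympForm 3 F (ρ κ *ᵥ x) y) + algebraMap F E (sympForm 3 F x y) * κ
  have hH : ∀ x y, H x y = algebraMap F E (sympForm 3 F (ρ κ *ᵥ x) y) + algebraMap F E (sympForm 3 F x y) * κ :=
    fun _ _ => rfl
  have hHadd : ∀ x y z, H (x + y) z = H x z + H y z := by
    intro x y z
    rw [hH, hH, hH, mulVec_add, sympForm_add_left, sympForm_add_left, map_add, map_add]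
    ring
  have hHκ : ∀ x y, H (ρ κ *ᵥ x) y = κ * H x y := by
    intro x y
    rw [hH, hH, mulVec_mulVec, ← map_mul, hd, hρalg, sympForm_smul_left, map_mul, ← hd]
    ring
  have hHc : ∀ (c : F) x y, H (c • x) y = algebraMap F E c * H x y := by
    intro c x y
    rw [hH, hH, mulVec_smul, sympForm_smul_left, sympForm_smul_left, map_mul, map_mul]
    ring
  have hHsmul : ∀ (k : E) x y, H (k • x) y = k * H x y := by
    intro k x y
    obtain ⟨a, b, rfl⟩ := hspan k
    rw [hsmul, map_add, map_mul, add_mulVec, ← mulVec_mulVec, hρalg, hρalg, hHadd, hHc, hHc, hHκ]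
    ring
  have hHswap : ∀ x y, H y x = H x y ^ q := by
    intro x y
    rw [hH, hH, add_pow_q hcE, mul_pow, ← map_pow, ← map_pow, hpowF, hpowF, hκq, sympForm_swap y x,
      sympForm_swap (ρ κ *ᵥ y) x, hadj x y]
    simp only [map_neg]
    ring
  have hHnd : ∀ x, (∀ y, H x y = 0) → x = 0 := by
    intro x hx
    apply eq_zero_of_forall_sympForm_right
    intro y
    have h3 := hx y
    rw [hH] at h3
    exact (two_coord hκ (a' := 0) (b' := 0) (by rw [h3]; simp)).2
  obtain ⟨m, β₁, hβ₁⟩ := exists_herm_coord hcE H hHadd hHsmul hHswap hHnd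
  have hm : m = 3 := by
    have h3 : finrank E (I6 → F) = m := by rw [← β₁.finrank_eq, finrank_fin_fun]
    have h4 := Module.finrank_mul_finrank F E (I6 → F)
    rw [hfr, h3, Module.finrank_fintype_fun_eq_card, card_I6] at h4
    omega
  subst hm
  let β : (Fin 3 → E) ≃ₗ[F] (I6 → F) := β₁.restrictScalars F
  have hβ : ∀ x, β x = β₁ x := fun _ => rfl
  rw [card_norm ρ β (fun k x => ?_) (sympForm 3 F) (spGL 3 F) (fun g => Iff.rfl)]
  · -- the multipliers
    have hε : ∀ σ : E ≃ₐ[F] E, σ κ = κ ∨ σ κ = -κ := by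
      intro σ
      have h3 : σ κ * σ κ = κ * κ := by rw [← map_mul, hd, σ.commutes]
      have h4 : (σ κ - κ) * (σ κ + κ) = 0 := by linear_combination h3
      rcases mul_eq_zero.1 h4 with h5 | h5
      · exact Or.inl (sub_eq_zero.1 h5)
      · exact Or.inr (eq_neg_of_add_eq_zero_left h5)
    let e : (E ≃ₐ[F] E) → E := fun σ => σ κ / κ
    have heκ : ∀ σ, σ κ = e σ * κ := fun σ => by
      show σ κ = σ κ / κ * κ
      rw [div_mul_cancel₀ _ hκ0]
    have he1 : ∀ σ, e σ = 1 ∨ e σ = -1 := by
      intro σ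
      rcases hε σ with h3 | h3
      · left; show σ κ / κ = 1; rw [h3, div_self hκ0]
      · right; show σ κ / κ = -1; rw [h3, neg_div, div_self hκ0]
    have hee : ∀ σ, e σ * e σ = 1 := by
      intro σ
      rcases he1 σ with h3 | h3 <;> rw [h3] <;> ring
    have heF : ∀ σ, ∃ c : F, e σ = algebraMap F E c := by
      intro σ
      rcases he1 σ with h3 | h3
      · exact ⟨1, by rw [h3, map_one]⟩
      · exact ⟨-1, by rw [h3, map_neg, map_one]⟩
    have he0 : ∀ σ, e σ ≠ 0 := by
      intro σ h3
      have := hee σ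
      rw [h3, zero_mul] at this
      exact zero_ne_one this
    have hiff : ∀ t : (E ≃ₐ[F] E) × GL (Fin 3) E,
        (∀ x y, sympForm 3 F (β (semi t.2 t.1 x)) (β (semi t.2 t.1 y)) = sympForm 3 F (β x) (β y)) ↔
          (∀ x y, hermForm 3 E q ((t.2 : Matrix (Fin 3) (Fin 3) E) *ᵥ x)
            ((t.2 : Matrix (Fin 3) (Fin 3) E) *ᵥ y) = e t.1 * hermForm 3 E q x y) := by
      rintro ⟨σ, A⟩
      simp only
      -- action of σ on the form
      have hσherm : ∀ x y : Fin 3 → E, hermForm 3 E q (fun i => σ (x i)) (fun i => σ (y i)) =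
          σ (hermForm 3 E q x y) := by
        intro x y
        rw [herm_def, herm_def, map_sum]
        refine Finset.sum_congr rfl fun i _ => ?_
        rw [map_mul, map_pow]
      have hsemiκ : ∀ x, β (semi A σ (κ • x)) = e σ • (ρ κ *ᵥ β (semi A σ x)) := by
        intro x
        rw [semi_smul, heκ, mul_smul, hβ, hβ, map_smul, map_smul]
        rfl
      have hform : ∀ x y, H (β x) (β y) = hermForm 3 E q x y := fun x y => hβ₁ x y
      constructor
      · intro h
        -- the hermitian form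
        have h3 : ∀ x y, H (β (semi A σ x)) (β (semi A σ y)) = e σ * σ (H (β x) (β y)) := by
          intro x y
          obtain ⟨c, hc⟩ := heF σ
          have hcc : c * c = 1 := by
            apply (algebraMap F E).injective
            rw [map_mul, ← hc, hee, map_one]
          have h4 := h (κ • x) y
          rw [hsemiκ, hc, hsmulF, sympForm_smul_left] at h4
          have h5 : β (κ • x) = ρ κ *ᵥ β x := by
            rw [hβ, hβ, map_smul]
            rfl
          rw [h5] at h4
          have h6 : sympForm 3 F (ρ κ *ᵥ β (semi A σ x)) (β (semi A σ y)) = c * sympForm 3 F (ρ κ *ᵥ β x) (β y) := by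
            rw [← h4, ← mul_assoc, hcc, one_mul]
          have h7 : algebraMap F E c * algebraMap F E c = 1 := by rw [← map_mul, hcc, map_one]
          have h8 : σ (H (β x) (β y)) = algebraMap F E (sympForm 3 F (ρ κ *ᵥ β x) (β y)) +
              algebraMap F E (sympForm 3 F (β x) (β y)) * (algebraMap F E c * κ) := by
            rw [hH, map_add, map_mul σ, σ.commutes, σ.commutes, heκ, hc]
          rw [h8, hH, h6, h, hc, map_mul]
          linear_combination (-(algebraMap F E (sympForm 3 F (β x) (β y))) * κ) * h7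
        intro x y
        have h4 := h3 (fun i => σ.symm (x i)) (fun i => σ.symm (y i))
        rw [hform, hform, ← hσherm] at h4
        unfold semi at h4
        simpa using h4
      · intro h x y
        have h3 : H (β (semi A σ x)) (β (semi A σ y)) = e σ * σ (H (β x) (β y)) := by
          rw [hform, hform]
          unfold semi
          rw [h, hσherm]
        rw [hH, hH, map_add, map_mul, σ.commutes, σ.commutes, heκ] at h3
        obtain ⟨c, hc⟩ := heF σ
        have h4 := hee σ
        have h5 := two_coord hκ (a := sympForm 3 F (ρ κ *ᵥ β (semi A σ x)) (β (semi A σ y)))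
          (b := sympForm 3 F (β (semi A σ x)) (β (semi A σ y)))
          (a' := c * sympForm 3 F (ρ κ *ᵥ β x) (β y)) (b' := sympForm 3 F (β x) (β y)) (by
            rw [h3, map_mul, ← hc]
            linear_combination (algebraMap F E (sympForm 3 F (β x) (β y)) * κ) * h4)
        exact h5.2
    rw [Nat.card_congr (Equiv.subtypeEquivRight hiff), card_simil e (fun σ => ?_) he0, card_GU3 hcE,
      IsGalois.card_aut_eq_finrank, hfr]
    apply exists_norm_eq hcE
    obtain ⟨c, hc⟩ := heF σ
    rw [hc, ← map_pow, hpowF]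
  · rw [hβ, hβ, map_smul]
    rfl

/-- **The order of `GU₂(q).2`.** -/
theorem card_herm3 (h2 : (2 : F) ≠ 0) {K : Subalgebra F (Matrix I6 I6 F)} (hK : IsFieldSubalgebra 2 K)
    (hac : IsAdjointClosedFor (sympForm 3 F) K) (hns : ¬ IsSelfAdjointFor (sympForm 3 F) K) :
    Nat.card ↥(subalgebraNormalizer K ⊓ spGL 3 F) =
      2 * (Nat.card F ^ 3 * (Nat.card F + 1) * (Nat.card F ^ 2 - 1) * (Nat.card F ^ 3 + 1)) := by
  obtain ⟨E, hE, hA, ρ, rfl, hfr⟩ := Cfsg.Agent.H954.FieldSub.exists_field hK
  have : FiniteDimensional F E := Module.finite_of_finrank_pos (by rw [hfr]; norm_num)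
  obtain ⟨k, hk, hkn⟩ : ∃ k ∈ ρ.range, ¬ ∀ u v, sympForm 3 F (k *ᵥ u) v = sympForm 3 F u (k *ᵥ v) := by
    by_contra hcon
    push Not at hcon
    exact hns hcon
  obtain ⟨k', hk', hadj⟩ := hac k hk
  have hadj' : ∀ u v, sympForm 3 F (k' *ᵥ u) v = sympForm 3 F u (k *ᵥ v) := by
    intro u v
    rw [sympForm_swap, ← hadj, sympForm_swap, neg_neg]
  obtain ⟨a, rfl⟩ := hk
  obtain ⟨b, rfl⟩ := hk'
  change ∀ u v, sympForm 3 F (ρ a *ᵥ u) v = sympForm 3 F u (ρ b *ᵥ v) at hadj
  change ∀ u v, sympForm 3 F (ρ b *ᵥ u) v = sympForm 3 F u (ρ a *ᵥ v) at hadj'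
  have hκadj : ∀ u v, sympForm 3 F (ρ (a - b) *ᵥ u) v = - sympForm 3 F u (ρ (a - b) *ᵥ v) := by
    intro u v
    rw [map_sub, sub_mulVec, sub_mulVec, sympForm_sub_left, sympForm_sub_right, hadj, hadj']
    ring
  refine card_six_herm h2 hfr ρ (κ := a - b) (fun c hc => ?_) hκadj
  have h1 : ∀ u v, 2 * (c * sympForm 3 F u v) = 0 := by
    intro u v
    have := hκadj u v
    rw [hc, AlgHom.commutes, Algebra.algebraMap_eq_smul_one, smul_mulVec, smul_mulVec, one_mulVec, one_mulVec,
      sympForm_smul_left, sympForm_smul_right] at this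
    linear_combination this
  have hc0 : c = 0 := by
    by_contra hc0
    have h3 : (1 : I6 → F) = 0 := eq_zero_of_forall_sympForm_left fun w =>
      (mul_eq_zero.1 ((mul_eq_zero.1 (h1 w 1)).resolve_left h2)).resolve_left hc0
    exact one_ne_zero h3
  rw [hc0, map_zero, sub_eq_zero] at hc
  apply hkn
  intro u v
  show sympForm 3 F (ρ a *ᵥ u) v = sympForm 3 F u (ρ a *ᵥ v)
  rw [hadj, hc]

end Cfsg.Agent.H402.Rg.Gu
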