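import Cfsg.Agent.H248.Cov.Sp8
import Cfsg.Agent.H753.ResCard
import Cfsg.Agent.H97.Sp4Ext
import Cfsg.Agent.H402.Rg.Ctx

/-!
# Proper subgroups of `Sp_4(q)`, `q` odd, of order divisible by a primitive prime of exponent 4
-/

set_option autoImplicit false
set_option linter.unusedSectionVars false

namespace Cfsg.Agent.H402.Rg

open Cfsg Cfsg.Geo Matrix Module
open Cfsg.Agent.H884.El (PP)
open Cfsg.Agent.H248.Cov
open Cfsg.Agent.H262.El
open Cfsg.Agent.H909.Sp4List (Res88 T1 T2 T3 T4 T5 T6 T7 ResL)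
open scoped MatrixGroups

variable {F : Type} [Field F] [Fintype F] {p f : ℕ}

/-- a self-adjoint field of degree `s` normalised by `X` -/
def InFld (m s : ℕ) (F : Type) [Field F] [Fintype F] (X : Subgroup (GL (Fin m ⊕ Fin m) F)) : Prop :=
  ∃ K : Subalgebra F (Matrix (Fin m ⊕ Fin m) (Fin m ⊕ Fin m) F), IsFieldSubalgebra s K ∧
    IsSelfAdjointFor (sympForm m F) K ∧ (∀ k ∈ K, ∀ v, sympForm m F (k *ᵥ v) v = 0) ∧ X ≤ subalgebraNormalizer K

theorem exists_elt {κ : Type} [Fintype κ] [DecidableEq κ] {X : Subgroup (GL κ F)} {r : ℕ} (hr : r.Prime)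
    (h : r ∣ Nat.card X) : ∃ y ∈ X, y ^ r = 1 ∧ y ≠ 1 := by
  have hfin : Finite (GL κ F) := inferInstance
  have := Fact.mk hr
  obtain ⟨g, hg⟩ := exists_prime_orderOf_dvd_card' r h
  refine ⟨g, g.2, ?_, ?_⟩
  · rw [← Subgroup.coe_pow, ← hg, pow_orderOf_eq_one]; rfl
  · intro h1
    have h2 : g = 1 := Subtype.ext h1
    rw [h2, orderOf_one] at hg
    exact hr.one_lt.ne hg

theorem list2 (hp : p.Prime) (hf : 1 ≤ f) (hF : Fintype.card F = p ^ f) (hodd : Odd (Fintype.card F)) (h5 : 5 ≤ Fintype.card F)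
    (h88 : Res88 F) {r : ℕ} (hr : PP p (f * 4) r) {X : Subgroup (GL (Fin 2 ⊕ Fin 2) F)} (hX : X ≤ spGL 2 F)
    (hne : X ≠ spGL 2 F) (hrX : r ∣ Nat.card X) : InFld 2 2 F X ∨ Nat.card X ≤ 10080 := by
  have hfin : Finite (GL (Fin 2 ⊕ Fin 2) F) := inferInstance
  obtain ⟨M, hM, hXM⟩ := exists_max hX hne
  have hdvd : r ∣ Nat.card M := hrX.trans (Subgroup.card_dvd_of_le hXM)
  have hle : Nat.card X ≤ Nat.card M := Nat.card_le_card_of_injective _ (Subgroup.inclusion_injective hXM)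
  obtain ⟨y, hy, hyr, hy1⟩ := exists_elt hr.prime hdvd
  have hι : Fintype.card (Fin 2 ⊕ Fin 2) = 4 := by simp
  have hFn : Nat.card F = p ^ f := by rw [Nat.card_eq_fintype_card, hF]
  have hod := od_of_pp hF hf (by norm_num) hr
  have hrq : PP (Nat.card F) (2 * 2) r := by
    rw [hFn]
    exact Cfsg.Agent.H884.El.PP.of_pow hr hf
  have hrd := hod.lt
  have hyS : y ∈ spGL 2 F := hM.1.le hy
  have hirr : ∀ W : Submodule F (Fin 2 ⊕ Fin 2 → F), M ≤ subspaceStabilizer W → W = ⊥ ∨ W = ⊤ := fun W hW =>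
    irr_of_od (by rw [hι]; exact hod) hyr hy1 W (fun v hv =>
      (Cfsg.Agent.H918.mem_subspaceStabilizer.1 (hW hy) v).1 hv)
  have hdec : ∀ (t k : ℕ) (D : Fin t → Submodule F (Fin 2 ⊕ Fin 2 → F)), k < 4 → t < 4 → IsMDecomposition k D →
      ¬ M ≤ decompositionStabilizer D := by
    intro t k D hk ht hD hH
    have := Cfsg.Agent.H884.El.decomp_le hD hH hrq (by omega) hdvd
    omega
  rcases Cfsg.Agent.H909.Sp4List.list hodd h88 hM with ⟨W, h1, h2, rfl⟩ | ⟨D, hD, rfl⟩ | ⟨-, D, hD, -, rfl⟩ |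
    ⟨K, h1, h2, h3, rfl⟩ | ⟨-, K, h1, h2, h3, rfl⟩ | ⟨F₀, s, P, ζ, hs, hcard, -, -, rfl⟩ | h7 | ⟨P, p', hc, hp', hch, h⟩
  · exfalso
    rcases hirr W inf_le_left with h | h
    · exact h1 h
    · exact totallySingular_ne_top (by norm_num) h2 h
  · exact absurd inf_le_left (hdec 2 2 D (by norm_num) (by norm_num) hD.decomp)
  · exact absurd inf_le_left (hdec 2 2 D (by norm_num) (by norm_num) hD)
  · exact Or.inl ⟨K, h1, h2, h3, hXM.trans inf_le_left⟩
  · exact (Cfsg.Agent.H118.BS.no_quad_even hyS hrq (by decide) (by norm_num) hyr hy1 h1 h2 h3 hy.1).elim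
  · exact (Cfsg.Agent.H884.El.kill_subfield inf_le_left hs (by rw [Nat.card_eq_fintype_card]; exact hcard) hp hFn hr
      (by rw [hι]; omega) (by omega) hdvd).elim
  · right
    exact hle.trans ((Nat.le_of_dvd (by norm_num) (Cfsg.Agent.H97.Sp4Ext.card_T7_dvd h7)).trans (by norm_num))
  · rcases h with ⟨⟨e⟩, -⟩ | ⟨⟨e⟩, -⟩ | ⟨⟨e⟩, -, -⟩
    · right
      exact hle.trans ((Nat.le_of_dvd (by norm_num) (Cfsg.Agent.H753.ResCard.card_A6 hM.1.le hc e)).trans (by norm_num))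
    · right
      exact hle.trans (Nat.le_of_dvd (by norm_num) (Cfsg.Agent.H753.ResCard.card_A7 hM.1.le hc e))
    · exfalso
      have h8 := hdvd.trans (Cfsg.Agent.H753.ResCard.card_L2 hp hF hodd h5 hM.1.le hc e)
      have hlt := hr.lt (by omega)
      rcases hr.prime.dvd_mul.1 h8 with h9 | h9
      · have := Nat.le_of_dvd (by omega) h9
        omega
      · rcases hr.prime.dvd_mul.1 h9 with h10 | h10
        · rw [hFn] at h10
          exact hr.not_dvd (by omega) (hr.prime.dvd_of_dvd_pow h10)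
        · rw [Nat.card_eq_fintype_card] at h10
          have h11 := (hod.dvd_iff Fintype.card_pos 2).1 h10
          have := Nat.le_of_dvd (by norm_num) h11
          omega

end Cfsg.Agent.H402.Rg
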