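import Cfsg.Agent.H402.Rg.Odd2

/-!
# S3691: no exact factorization with socle `PSp_4(q)`, `q` odd
-/

set_option autoImplicit false
set_option linter.unusedSectionVars false

namespace Cfsg.Agent.H402.Rg

open Matrix Module Cfsg Cfsg.Geo
open scoped MatrixGroups Matrix
open Cfsg.Agent.H909.Sp4List (Res88)

variable {F : Type} [Field F] [Fintype F]

theorem card_sp4 : Nat.card (spGL 2 F) = Fintype.card F ^ 4 * ((Fintype.card F ^ 2 - 1) * (Fintype.card F ^ 4 - 1)) := by
  rw [card_sp]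
  simp only [Finset.prod_range_succ, Finset.prod_range_zero, one_mul, zero_add, mul_one, Nat.reduceAdd, Nat.reduceMul,
    Nat.reducePow]

/-- the bound for `q` -/
theorem lt_of_large (hodd : Odd (Fintype.card F)) (h : 3 * Nat.factorial 29 < Nat.card (PSp 2 F)) : 1387 < Fintype.card F := by
  by_contra hcon
  have h1 := Cfsg.Agent.H618.Dp.card_ker (m := 2) (F := F)
  rw [card_ker_odd hodd (by norm_num), card_sp4] at h1
  have h2 : Fintype.card F ^ 4 * ((Fintype.card F ^ 2 - 1) * (Fintype.card F ^ 4 - 1)) ≤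
      1387 ^ 4 * ((1387 ^ 2 - 1) * (1387 ^ 4 - 1)) := by
    have hk : ∀ n, Fintype.card F ^ n ≤ 1387 ^ n := fun n => Nat.pow_le_pow_left (by omega) n
    exact Nat.mul_le_mul (hk 4) (Nat.mul_le_mul (Nat.sub_le_sub_right (hk 2) 1) (Nat.sub_le_sub_right (hk 4) 1))
  have h3 : 1387 ^ 4 * ((1387 ^ 2 - 1) * (1387 ^ 4 - 1)) ≤ 2 * (3 * Nat.factorial 29) := by
    norm_num [Nat.factorial]
  omega

universe u

/-- **no exact factorization with socle `PSp_4(q)`, `q` odd** -/
theorem fac_false_odd {G : Type u} [Group G] [Finite G] {T X Y : Subgroup G} (h : Cfsg.Agent.H454.Reg.Fac T X Y)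
    (i : T ≃* PSp 2 F) (hodd : Odd (Fintype.card F)) (h88 : Res88 F) : False := by
  have hq := lt_of_large hodd (by
    rw [← Nat.card_congr i.toEquiv]
    exact h.large)
  obtain ⟨p, hchar⟩ := CharP.exists F
  obtain ⟨f, hp, hF⟩ := FiniteField.card F p
  obtain ⟨X₁, Y₁, e, hc⟩ := exists_ctx h i hp f.pos hF hodd (by omega) (by norm_num)
  exact odd_two hp f.pos hF hodd hq h88 hc

end Cfsg.Agent.H402.Rg
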