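import Cfsg.Agent.H402.Rg.EvMain
import Cfsg.Agent.H402.Rg.EvList
import Cfsg.Agent.H402.Rg.RowOdd
import Cfsg.Agent.H242.Rg.CtxFour
import Cfsg.Agent.H89.Rg.CTwo

/-!
# S3691: no exact factorization with socle `PSp_4(q)`, `q` even
-/

set_option autoImplicit false
set_option linter.unusedSectionVars false

namespace Cfsg.Agent.H402.Rg

open Matrix Module Cfsg Cfsg.Geo
open scoped MatrixGroups Matrix
open Cfsg.Agent.H909.Sp4List (Res88)

variable {F : Type} [Field F] [Fintype F]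

/-- the bound for `q` -/
theorem eleven_le {f : ℕ} (hF : Fintype.card F = 2 ^ f) (h : 3 * Nat.factorial 29 < Nat.card (PSp 2 F)) : 11 ≤ f := by
  by_contra hcon
  have h0 : Nat.card (PSp 2 F) ≤ Nat.card (spGL 2 F) := by
    have h1 := Cfsg.Agent.H618.Dp.card_ker (m := 2) (F := F)
    rw [← h1]
    exact Nat.le_mul_of_pos_left _ Nat.card_pos
  have hq : Fintype.card F ≤ 1024 := by
    rw [hF]
    calc 2 ^ f ≤ 2 ^ 10 := Nat.pow_le_pow_right (by norm_num) (by omega)
      _ = 1024 := by norm_num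
  rw [card_sp4] at h0
  have h2 : Fintype.card F ^ 4 * ((Fintype.card F ^ 2 - 1) * (Fintype.card F ^ 4 - 1)) ≤
      1024 ^ 4 * ((1024 ^ 2 - 1) * (1024 ^ 4 - 1)) := by
    have hk : ∀ n, Fintype.card F ^ n ≤ 1024 ^ n := fun n => Nat.pow_le_pow_left (by omega) n
    exact Nat.mul_le_mul (hk 4) (Nat.mul_le_mul (Nat.sub_le_sub_right (hk 2) 1) (Nat.sub_le_sub_right (hk 4) 1))
  have h3 : 1024 ^ 4 * ((1024 ^ 2 - 1) * (1024 ^ 4 - 1)) ≤ 3 * Nat.factorial 29 := by
    norm_num [Nat.factorial]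
  omega

universe u

/-- **no exact factorization with socle `PSp_4(q)`, `q` even** -/
theorem fac_false_even {G : Type u} [Group G] [Finite G] {T X Y : Subgroup G} (h : Cfsg.Agent.H454.Reg.Fac T X Y)
    (i : T ≃* PSp 2 F) (hev : ¬ Odd (Fintype.card F)) : False := by
  obtain ⟨p, hchar⟩ := CharP.exists F
  obtain ⟨n, hp, hF⟩ := FiniteField.card F p
  have hp2 : p = 2 := by
    by_contra hne
    apply hev
    rw [hF]
    exact (hp.odd_of_ne_two hne).pow
  subst hp2
  have hf := eleven_le hF (by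
    rw [← Nat.card_congr i.toEquiv]
    exact h.large)
  obtain ⟨X₁, Y₁, e, hc⟩ := Cfsg.Agent.H242.Rg.CtxFour.exists_ctxE h i (by omega) hF
  exact EvA.no_ctx hf hF (fun hX hne _ hs hsX => EvA.list_even hf hF hX hne hs hsX)
    (fun hg hh => Cfsg.Agent.H89.Rg.isC2_conj hg hh) hc

/-- **no exact factorization with socle `PSp_4(q)`** (hypothesis: S5788) -/
theorem fac_false_two {G : Type u} [Group G] [Finite G] {T X Y : Subgroup G} (h : Cfsg.Agent.H454.Reg.Fac T X Y)
    (i : T ≃* PSp 2 F) (h88 : Odd (Fintype.card F) → Res88 F) : False := by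
  by_cases hodd : Odd (Fintype.card F)
  · exact fac_false_odd h i hodd (h88 hodd)
  · exact fac_false_even h i hodd

end Cfsg.Agent.H402.Rg
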