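import Cfsg.Agent.H402.Rg.Rk2
import Cfsg.Agent.H402.Rg.Dk

/-!
# Subgroups of `Sp_4(q)`, `q` odd, without elements of rank two: geometry
-/

set_option autoImplicit false
set_option linter.unusedSectionVars false

namespace Cfsg.Agent.H402.Rg

open Module Matrix Cfsg Cfsg.Geo
open scoped MatrixGroups Matrix
open Cfsg.Agent.ClassicalGeometry.SympBasic

/-! ### transvection groups -/

section TG

variable {m : ℕ} {F : Type*} [Field F]

/-- the group of transvections with centre `u` -/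
def TG (Y : Subgroup (GL (Fin m ⊕ Fin m) F)) (u : Fin m ⊕ Fin m → F) : Subgroup (GL (Fin m ⊕ Fin m) F) where
  carrier := {g | g ∈ Y ∧ ∃ a : F, ∀ x, (g : Matrix (Fin m ⊕ Fin m) (Fin m ⊕ Fin m) F) *ᵥ x = x + (a * sympForm m F u x) • u}
  one_mem' := ⟨Y.one_mem, 0, fun x => by rw [Units.val_one, one_mulVec, zero_mul, zero_smul, add_zero]⟩
  mul_mem' := by
    rintro g h ⟨hg, a, h1⟩ ⟨hh, b, h2⟩
    refine ⟨Y.mul_mem hg hh, a + b, fun x => ?_⟩
    rw [Units.val_mul, ← mulVec_mulVec, h2, h1, sympForm_add_right, sympForm_smul_right, sympForm_self]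
    module
  inv_mem' := by
    rintro g ⟨hg, a, h1⟩
    refine ⟨Y.inv_mem hg, -a, fun x => ?_⟩
    have h2 := h1 (x + (-a * sympForm m F u x) • u)
    rw [sympForm_add_right, sympForm_smul_right, sympForm_self] at h2
    have h3 : (g : Matrix (Fin m ⊕ Fin m) (Fin m ⊕ Fin m) F) *ᵥ (x + (-a * sympForm m F u x) • u) = x := by
      rw [h2]
      module
    conv_lhs => rw [← h3]
    rw [mulVec_mulVec, ← Units.val_mul, inv_mul_cancel, Units.val_one, one_mulVec]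

theorem card_TG (Y : Subgroup (GL (Fin m ⊕ Fin m) F)) {u : Fin m ⊕ Fin m → F} (hu : u ≠ 0) :
    Nat.card (TG Y u) = Nat.card (TA Y u) := by
  obtain ⟨v, hv⟩ := exists_pair hu
  -- from parameters to elements
  have hch : ∀ a : TA Y u, ∃ g : TG Y u, ∀ x, ((g : GL (Fin m ⊕ Fin m) F) : Matrix (Fin m ⊕ Fin m) (Fin m ⊕ Fin m) F) *ᵥ x =
      x + ((a : F) * sympForm m F u x) • u := by
    rintro ⟨a, g, hg, h1⟩
    exact ⟨⟨g, hg, a, h1⟩, h1⟩
  choose φ hφ using hch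
  refine (Nat.card_congr (Equiv.ofBijective φ ⟨?_, ?_⟩)).symm
  · intro a b hab
    have h1 := hφ a v
    rw [hab, hφ b v, hv, mul_one, mul_one] at h1
    have h2 := smul_left_injective F hu (add_left_cancel h1)
    exact Subtype.ext h2.symm
  · rintro ⟨g, hg, a, h1⟩
    refine ⟨⟨a, g, hg, h1⟩, ?_⟩
    apply Subtype.ext
    apply Units.ext
    apply eq_of_mulVec
    intro x
    rw [hφ]
    exact (h1 x).symm

theorem card_TA_dvd (Y : Subgroup (GL (Fin m ⊕ Fin m) F)) {u : Fin m ⊕ Fin m → F} (hu : u ≠ 0) :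
    Nat.card (TA Y u) ∣ Nat.card Y := by
  rw [← card_TG Y hu]
  exact Subgroup.card_dvd_of_le (fun g hg => hg.1)

end TG

section geo

variable {F : Type*} [Field F] {Y : Subgroup (GL (Fin 2 ⊕ Fin 2) F)}

/-- two orthogonal centres -/
theorem two_of_TA {u₁ u₂ : Fin 2 ⊕ Fin 2 → F} (h0 : u₁ ≠ 0) (hind : ∀ c : F, u₂ ≠ c • u₁) (h12 : sympForm 2 F u₁ u₂ = 0)
    {a b : F} (ha : a ∈ TA Y u₁) (ha0 : a ≠ 0) (hb : b ∈ TA Y u₂) (hb0 : b ≠ 0) : ∃ g ∈ Y, Two g := by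
  obtain ⟨g₁, hg₁, h1⟩ := ha
  obtain ⟨g₂, hg₂, h2⟩ := hb
  have h21 : sympForm 2 F u₂ u₁ = 0 := by rw [sympForm_swap, h12, neg_zero]
  have hg : ∀ x, ((g₁ * g₂ : GL (Fin 2 ⊕ Fin 2) F) : Matrix (Fin 2 ⊕ Fin 2) (Fin 2 ⊕ Fin 2) F) *ᵥ x =
      x + ((a * sympForm 2 F u₁ x) • u₁ + (b * sympForm 2 F u₂ x) • u₂) := by
    intro x
    rw [Units.val_mul, ← mulVec_mulVec, h2, h1, sympForm_add_right, sympForm_smul_right, h12]
    module
  have hN : ∀ x, ((g₁ * g₂ : GL (Fin 2 ⊕ Fin 2) F) : Matrix (Fin 2 ⊕ Fin 2) (Fin 2 ⊕ Fin 2) F) *ᵥ x - x =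
      (a * sympForm 2 F u₁ x) • u₁ + (b * sympForm 2 F u₂ x) • u₂ := by
    intro x; rw [hg]; abel
  obtain ⟨fr, hfr⟩ := exists_fr' (k := 1) (m := 2) rfl h0
  have e1 := fr.dec u₂
  rw [hfr, h12, zero_smul, add_zero] at e1
  have hy : fr.π u₂ ≠ 0 := by
    intro h
    rw [h, map_zero, add_zero] at e1
    exact hind _ e1
  obtain ⟨z, hz⟩ := exists_pair hy
  have k1 : sympForm 2 F u₁ (fr.ι z) = 0 := by rw [← hfr]; exact fr.uι z
  have k2 : sympForm 2 F u₂ (fr.ι z) = 1 := by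
    rw [e1, sympForm_add_left, sympForm_smul_left, k1, fr.form, hz]; ring
  have k3 : sympForm 2 F u₁ fr.v = 1 := by rw [← hfr]; exact fr.uv
  refine ⟨g₁ * g₂, Y.mul_mem hg₁ hg₂, ?_, fr.v - (sympForm 2 F u₂ fr.v) • fr.ι z, fr.ι z, ?_, ?_, ?_⟩
  · intro x
    rw [hN, hg]
    simp only [sympForm_add_right, sympForm_smul_right, sympForm_self, h12, h21]
    module
  · rw [hN]
    simp only [sympForm_add_left, sympForm_smul_left, sympForm_sub_right, sympForm_smul_right, k1, k2, k3]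
    ring_nf
    exact ha0
  · rw [hN]
    simp only [sympForm_add_left, sympForm_smul_left, k1, k2]
    ring_nf
    exact hb0
  · rw [hN]
    simp only [sympForm_add_left, sympForm_smul_left, sympForm_sub_right, sympForm_smul_right, k1, k2, k3]
    ring

/-- elements of the radical outside of the centre -/
theorem two_of_Q (h2 : (2 : F) ≠ 0) {fr : Fr 1 2 F} (h : fr.Par Y) {g : GL (Fin 2 ⊕ Fin 2) F} (hg : g ∈ Fr.Q h)
    (hgT : g ∉ Fr.T h) : Two g := by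
  obtain ⟨hg1, hg2, hg3⟩ := (Fr.mem_Q h).1 hg
  have e1 := Fr.Q_v h hg
  have e2 := fun y => Fr.Q_ι h hg y
  set w := fr.π ((g : Matrix (Fin 2 ⊕ Fin 2) (Fin 2 ⊕ Fin 2) F) *ᵥ fr.v) with hw
  set a := sympForm 2 F ((g : Matrix (Fin 2 ⊕ Fin 2) (Fin 2 ⊕ Fin 2) F) *ᵥ fr.v) fr.v with ha
  have hw0 : w ≠ 0 := fun h0 => hgT ((Fr.mem_T h).2 ⟨hg, h0⟩)
  have hN : ∀ x, (g : Matrix (Fin 2 ⊕ Fin 2) (Fin 2 ⊕ Fin 2) F) *ᵥ x - x =
      (sympForm 2 F fr.u x * a + sympForm 1 F w (fr.π x)) • fr.u + sympForm 2 F fr.u x • fr.ι w := by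
    intro x
    have : (g : Matrix (Fin 2 ⊕ Fin 2) (Fin 2 ⊕ Fin 2) F) *ᵥ x = (sympForm 2 F x fr.v) • fr.u +
        sympForm 2 F fr.u x • (a • fr.u + fr.v + fr.ι w) + (sympForm 1 F w (fr.π x) • fr.u + fr.ι (fr.π x)) := by
      conv_lhs => rw [fr.dec x]
      rw [mulVec_add, mulVec_add, mulVec_smul, mulVec_smul, hg2, e1, e2]
    rw [this]
    conv_lhs => rw [sub_eq_add_neg]; arg 2; rw [fr.dec x]
    module
  have hNu : (g : Matrix (Fin 2 ⊕ Fin 2) (Fin 2 ⊕ Fin 2) F) *ᵥ fr.ι w = fr.ι w := by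
    rw [e2, sympForm_self, zero_smul, zero_add]
  obtain ⟨y0, hy0⟩ := exists_pair hw0
  set τ : F := (1 - a) / 2 with hτ
  have hτ2 : a + 2 * τ = 1 := by rw [hτ]; field_simp; ring
  have key : ∀ s : F, (g : Matrix (Fin 2 ⊕ Fin 2) (Fin 2 ⊕ Fin 2) F) *ᵥ (fr.v + fr.ι (s • y0)) - (fr.v + fr.ι (s • y0)) =
      (a + s) • fr.u + fr.ι w := by
    intro s
    rw [hN, sympForm_add_right, fr.uv, fr.uι, map_add, fr.πv, fr.πι, zero_add, sympForm_smul_right, hy0]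
    module
  have key2 : ∀ s t : F, sympForm 2 F ((a + s) • fr.u + fr.ι w) (fr.v + fr.ι (t • y0)) = a + s + t := by
    intro s t
    rw [sympForm_add_left, sympForm_add_right, sympForm_add_right, sympForm_smul_left, sympForm_smul_left, fr.uv, fr.uι,
      fr.ιv, fr.form, sympForm_smul_right, hy0]
    ring
  refine ⟨?_, fr.v + fr.ι (τ • y0), fr.v + fr.ι ((-(a + τ)) • y0), ?_, ?_, ?_⟩
  · intro x
    rw [hN, mulVec_add, mulVec_smul, mulVec_smul, hg2, hNu]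
  · rw [key, key2]
    have : a + τ + τ = 1 := by linear_combination hτ2
    rw [this]
    exact one_ne_zero
  · rw [key, key2]
    have : a + -(a + τ) + -(a + τ) = -1 := by linear_combination -hτ2
    rw [this]
    exact neg_ne_zero.2 one_ne_zero
  · rw [key, key2]
    ring

end geo

end Cfsg.Agent.H402.Rg
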